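import Mathlib
import Cfsg.Prelude.Def_Spor_J2

/-!
# Shared vocabulary for the icosian model of `J2`
-/

set_option autoImplicit false

open Quaternion

namespace Cfsg.Agent.Helper7.J2

/-- Left scalar multiplication on `ℍ³`: `(a • x)_t = a * x_t`. -/
noncomputable def lsmul (a : ℍ[ℝ]) (x : Fin 3 → ℍ[ℝ]) : Fin 3 → ℍ[ℝ] := fun t => a * x t

@[simp] theorem lsmul_apply (a : ℍ[ℝ]) (x : Fin 3 → ℍ[ℝ]) (t : Fin 3) : lsmul a x t = a * x t := rfl

end Cfsg.Agent.Helper7.J2
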