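import Cfsg.Agent.Helper7.J2.Basic

/-!
# The icosian ring in integer coordinates

`Cfsg.Spor.icosians` is the set of `toH X` with `X` satisfying four parity conditions
(`codeOK`): the residues of the four `ℤ[τ]`-coordinates modulo 2 form a word of a `[4,2]`
code over the field with four elements.
-/

set_option autoImplicit false

open Quaternion

namespace Cfsg.Agent.Helper7.J2

open Cfsg.Spor

namespace Q8

/-- The parity conditions cutting out `2 I` inside `ℤ[τ]⁴`. -/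
def codeOK (X : Q8) : Prop :=
  (X.b1 + X.c0 + X.d0 + X.d1) % 2 = 0 ∧ (X.b0 + X.c0 + X.c1 + X.d1) % 2 = 0 ∧
  (X.a1 + X.c0 + X.c1 + X.d0) % 2 = 0 ∧ (X.a0 + X.c1 + X.d0 + X.d1) % 2 = 0

instance : DecidablePred codeOK := fun X => by unfold codeOK; infer_instance

theorem codeOK_zero : codeOK zero := by decide
theorem codeOK_one : codeOK one := by decide

theorem codeOK_add {X Y : Q8} (hX : codeOK X) (hY : codeOK Y) : codeOK (add X Y) := by
  unfold codeOK at *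
  simp only [add]
  omega

theorem codeOK_neg {X : Q8} (hX : codeOK X) : codeOK (neg X) := by
  unfold codeOK at *
  simp only [neg]
  omega

theorem codeOK_sub {X Y : Q8} (hX : codeOK X) (hY : codeOK Y) : codeOK (sub X Y) := by
  unfold codeOK at *
  simp only [sub]
  omega

theorem codeOK_smul (n : ℤ) {X : Q8} (hX : codeOK X) : codeOK (smul n X) := by
  unfold codeOK at *
  simp only [smul]
  rcases Int.emod_two_eq_zero_or_one n with hn | hn
  · have h1 : ∀ t : ℤ, (n * t) % 2 = 0 := fun t => by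
      rw [Int.mul_emod, hn]; simp
    have := h1 X.a0; have := h1 X.a1; have := h1 X.b0; have := h1 X.b1
    have := h1 X.c0; have := h1 X.c1; have := h1 X.d0; have := h1 X.d1
    omega
  · have h1 : ∀ t : ℤ, (n * t) % 2 = t % 2 := fun t => by
      rw [Int.mul_emod, hn]; simp
    have := h1 X.a0; have := h1 X.a1; have := h1 X.b0; have := h1 X.b1
    have := h1 X.c0; have := h1 X.c1; have := h1 X.d0; have := h1 X.d1
    omega

/-! ### An adapted basis: `B1 … B4` lie in `I h`, `B5 … B8` in `I h̄`. -/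

def B1 : Q8 := ⟨-1, 0, 1, -2, -1, 0, 1, 0⟩
def B2 : Q8 := ⟨-1, 0, 1, -2, 1, 0, -1, 0⟩
def B3 : Q8 := ⟨2, 0, 0, 0, -2, 0, 0, 0⟩
def B4 : Q8 := ⟨1, -1, 1, -1, 1, 1, -1, 1⟩
def B5 : Q8 := ⟨-1, 0, 1, -1, 2, 0, 0, -1⟩
def B6 : Q8 := ⟨2, 0, 0, -1, -1, 0, -1, 1⟩
def B7 : Q8 := ⟨0, 0, 1, -2, -1, 1, 0, 1⟩
def B8 : Q8 := ⟨1, -1, -1, 2, 0, 1, 0, 0⟩

/-- The coordinates with respect to `Bv`. -/
def n0 (X : Q8) : ℤ := (-2 * X.a1 - X.b0 - X.b1 - X.c1 + X.d0) / 2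
def n1 (X : Q8) : ℤ := (-X.a0 - X.a1 - X.c0 - 2 * X.d0 - X.d1) / 2
def n2 (X : Q8) : ℤ := (2 * X.b0 + X.b1 - X.c0 - X.d0 - X.d1) / 2
def n3 (X : Q8) : ℤ := (-X.a1 + 2 * X.b0 + X.b1 - X.c1 + X.d1) / 2
def n4 (X : Q8) : ℤ := (X.a0 + X.a1 - X.b0 - X.b1 + X.c0 + X.c1 + X.d0 - X.d1) / 2
def n5 (X : Q8) : ℤ := (X.a0 - 3 * X.b0 - 2 * X.b1 + X.c0 + X.d0) / 2
def n6 (X : Q8) : ℤ := (2 * X.a1 + 2 * X.c1) / 2
def n7 (X : Q8) : ℤ := (-X.a1 - 2 * X.b0 - X.b1 + X.c1 - X.d1) / 2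

/-- Integer combination of the basis. -/
def comb8 (n0 n1 n2 n3 n4 n5 n6 n7 : ℤ) : Q8 :=
  ⟨-n0 - n1 + 2 * n2 + n3 - n4 + 2 * n5 + n7,
   -n3 - n7,
   n0 + n1 + n3 + n4 + n6 - n7,
   -2 * n0 - 2 * n1 - n3 - n4 - n5 - 2 * n6 + 2 * n7,
   -n0 + n1 - 2 * n2 + n3 + 2 * n4 - n5 - n6,
   n3 + n6 + n7,
   n0 - n1 - n3 - n5,
   n3 - n4 + n5 + n6⟩

theorem decomp {X : Q8} (h : codeOK X) :
    comb8 (n0 X) (n1 X) (n2 X) (n3 X) (n4 X) (n5 X) (n6 X) (n7 X) = X := by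
  obtain ⟨a0, a1, b0, b1, c0, c1, d0, d1⟩ := X
  obtain ⟨h1, h2, h3, h4⟩ := h
  simp only at h1 h2 h3 h4
  simp only [comb8, n0, n1, n2, n3, n4, n5, n6, n7, mk.injEq]
  refine ⟨?_, ?_, ?_, ?_, ?_, ?_, ?_, ?_⟩ <;> omega

theorem codeOK_comb8 (n0 n1 n2 n3 n4 n5 n6 n7 : ℤ) : codeOK (comb8 n0 n1 n2 n3 n4 n5 n6 n7) := by
  simp only [codeOK, comb8]
  refine ⟨?_, ?_, ?_, ?_⟩ <;> omega

theorem n_comb8 (m0 m1 m2 m3 m4 m5 m6 m7 : ℤ) :
    n0 (comb8 m0 m1 m2 m3 m4 m5 m6 m7) = m0 ∧ n1 (comb8 m0 m1 m2 m3 m4 m5 m6 m7) = m1 ∧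
    n2 (comb8 m0 m1 m2 m3 m4 m5 m6 m7) = m2 ∧ n3 (comb8 m0 m1 m2 m3 m4 m5 m6 m7) = m3 ∧
    n4 (comb8 m0 m1 m2 m3 m4 m5 m6 m7) = m4 ∧ n5 (comb8 m0 m1 m2 m3 m4 m5 m6 m7) = m5 ∧
    n6 (comb8 m0 m1 m2 m3 m4 m5 m6 m7) = m6 ∧ n7 (comb8 m0 m1 m2 m3 m4 m5 m6 m7) = m7 := by
  simp only [comb8, n0, n1, n2, n3, n4, n5, n6, n7]
  refine ⟨?_, ?_, ?_, ?_, ?_, ?_, ?_, ?_⟩ <;> omega

theorem toH_comb8 (m0 m1 m2 m3 m4 m5 m6 m7 : ℤ) :
    toH (comb8 m0 m1 m2 m3 m4 m5 m6 m7) =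
      m0 • toH B1 + m1 • toH B2 + m2 • toH B3 + m3 • toH B4 + m4 • toH B5 + m5 • toH B6 +
        m6 • toH B7 + m7 • toH B8 := by
  ext <;>
  simp [comb8, B1, B2, B3, B4, B5, B6, B7, B8] <;> ring

/-- The basis as a family. -/
def Bv : Fin 8 → Q8 := ![B1, B2, B3, B4, B5, B6, B7, B8]

/-- Halve all coordinates. -/
def halve (X : Q8) : Q8 :=
  ⟨X.a0 / 2, X.a1 / 2, X.b0 / 2, X.b1 / 2, X.c0 / 2, X.c1 / 2, X.d0 / 2, X.d1 / 2⟩

theorem toH_mul_of_eq {X Y P : Q8} (h : mulRaw X Y = smul 2 P) : toH X * toH Y = toH P := by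
  have h1 := toH_mulRaw X Y
  rw [h, toH_smul] at h1
  have h2 : ((2 : ℤ) : ℝ) = 2 := by norm_num
  rw [h2] at h1
  exact (smul_right_injective _ (two_ne_zero (α := ℝ))) h1.symm

/-- The additive group of all `toH X` with `X` satisfying the parity conditions. -/
def icoSet : AddSubgroup ℍ[ℝ] where
  carrier := {q | ∃ X, codeOK X ∧ toH X = q}
  zero_mem' := ⟨zero, codeOK_zero, toH_zero⟩
  add_mem' := by
    rintro _ _ ⟨X, hX, rfl⟩ ⟨Y, hY, rfl⟩
    exact ⟨add X Y, codeOK_add hX hY, toH_add X Y⟩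
  neg_mem' := by
    rintro _ ⟨X, hX, rfl⟩
    exact ⟨neg X, codeOK_neg hX, toH_neg X⟩

theorem mem_icoSet {q : ℍ[ℝ]} : q ∈ icoSet ↔ ∃ X, codeOK X ∧ toH X = q := Iff.rfl

theorem toH_mem_icoSet {X : Q8} (h : codeOK X) : toH X ∈ icoSet := ⟨X, h, rfl⟩

theorem codeOK_Bv : ∀ j, codeOK (Bv j) := by decide

theorem icoSet_eq_closure :
    icoSet = AddSubgroup.closure (Set.range fun j : Fin 8 => toH (Bv j)) := by
  apply le_antisymm
  · rintro _ ⟨X, hX, rfl⟩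
    rw [← decomp hX, toH_comb8]
    have hm : ∀ j : Fin 8, toH (Bv j) ∈
        AddSubgroup.closure (Set.range fun j : Fin 8 => toH (Bv j)) :=
      fun j => AddSubgroup.subset_closure ⟨j, rfl⟩
    have h0 := hm 0; have h1 := hm 1; have h2 := hm 2; have h3 := hm 3
    have h4 := hm 4; have h5 := hm 5; have h6 := hm 6; have h7 := hm 7
    simp only [Bv, Matrix.cons_val_zero, Matrix.cons_val_one, Matrix.cons_val] at h0 h1 h2 h3 h4 h5 h6 h7
    exact add_mem (add_mem (add_mem (add_mem (add_mem (add_mem (add_mem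
      (zsmul_mem h0 _) (zsmul_mem h1 _)) (zsmul_mem h2 _)) (zsmul_mem h3 _)) (zsmul_mem h4 _))
      (zsmul_mem h5 _)) (zsmul_mem h6 _)) (zsmul_mem h7 _)
  · rw [AddSubgroup.closure_le]
    rintro _ ⟨j, rfl⟩
    exact toH_mem_icoSet (codeOK_Bv j)

theorem basis_mul_mem (j k : Fin 8) : toH (Bv j) * toH (Bv k) ∈ icoSet := by
  have h : ∀ j k : Fin 8, codeOK (halve (mulRaw (Bv j) (Bv k))) ∧
      mulRaw (Bv j) (Bv k) = smul 2 (halve (mulRaw (Bv j) (Bv k))) := by decide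
  exact ⟨_, (h j k).1, (toH_mul_of_eq (h j k).2).symm⟩

theorem icoSet_mul_mem {x y : ℍ[ℝ]} (hx : x ∈ icoSet) (hy : y ∈ icoSet) : x * y ∈ icoSet := by
  rw [icoSet_eq_closure] at hx hy
  have key : x * y ∈ icoSet := by
    refine AddSubgroup.closure_induction₂ (p := fun a b _ _ => a * b ∈ icoSet)
      ?_ ?_ ?_ ?_ ?_ ?_ ?_ hx hy
    · rintro _ _ ⟨j, rfl⟩ ⟨k, rfl⟩
      exact basis_mul_mem j k
    · intro a _; simp only [zero_mul]; exact zero_mem _
    · intro a _; simp only [mul_zero]; exact zero_mem _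
    · intro a b c _ _ _ h1 h2; rw [add_mul]; exact add_mem h1 h2
    · intro a b c _ _ _ h1 h2; rw [mul_add]; exact add_mem h1 h2
    · intro a b _ _ h1; rw [neg_mul]; exact neg_mem h1
    · intro a b _ _ h1; rw [mul_neg]; exact neg_mem h1
  exact key

/-- The model of the icosian ring as a subring. -/
def icoRing : Subring ℍ[ℝ] where
  carrier := icoSet
  zero_mem' := zero_mem _
  add_mem' := add_mem
  neg_mem' := neg_mem
  one_mem' := ⟨one, codeOK_one, toH_one⟩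
  mul_mem' := icoSet_mul_mem

theorem mem_icoRing {q : ℍ[ℝ]} : q ∈ icoRing ↔ ∃ X, codeOK X ∧ toH X = q := Iff.rfl

/-- The generator `i`. -/
def QI : Q8 := ⟨0, 0, 2, 0, 0, 0, 0, 0⟩
/-- The generator `½ (1 + σ i + τ k)`. -/
def OM : Q8 := ⟨1, 0, 1, -1, 0, 0, 0, 1⟩

theorem toH_QI : toH QI = qI := by
  ext <;> simp [QI, qI]

theorem toH_OM : toH OM = (⟨1 / 2, sig / 2, 0, tau / 2⟩ : ℍ[ℝ]) := by
  ext <;> simp [OM, sig_eq] <;> ring

theorem icosians_le : icosians ≤ icoRing := by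
  unfold icosians
  rw [Subring.closure_le]
  rintro q hq
  rcases hq with rfl | hq
  · exact ⟨QI, by decide, toH_QI⟩
  · have hq' : q = (⟨1 / 2, sig / 2, 0, tau / 2⟩ : ℍ[ℝ]) := hq
    subst hq'
    exact ⟨OM, by decide, toH_OM⟩

theorem mem_icosians_of_mul {X Y P : Q8} (hX : toH X ∈ icosians) (hY : toH Y ∈ icosians)
    (h : mulRaw X Y = smul 2 P) : toH P ∈ icosians := by
  rw [← toH_mul_of_eq h]
  exact mul_mem hX hY

theorem QI_mem : toH QI ∈ icosians := by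
  rw [toH_QI]; exact Subring.subset_closure (Or.inl rfl)

theorem OM_mem : toH OM ∈ icosians := by
  rw [toH_OM]; exact Subring.subset_closure (Or.inr rfl)

/-- Unit words in the generators forming a `ℤ`-basis of the icosians. -/
def U3 : Q8 := ⟨-1, 1, 1, 0, 0, -1, 0, 0⟩
def U4 : Q8 := ⟨-1, 1, 1, 0, 0, 1, 0, 0⟩
def U5 : Q8 := ⟨-1, 0, -1, 1, 0, 0, 0, 1⟩
def U6 : Q8 := ⟨-1, 1, 0, 1, 0, 0, 1, 0⟩
def U7 : Q8 := ⟨0, -1, -1, 1, -1, 0, 0, 0⟩

theorem U3_mem : toH U3 ∈ icosians := mem_icosians_of_mul QI_mem OM_mem (by decide)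
theorem U4_mem : toH U4 ∈ icosians := mem_icosians_of_mul OM_mem QI_mem (by decide)
theorem U5_mem : toH U5 ∈ icosians := mem_icosians_of_mul U3_mem QI_mem (by decide)
theorem U6_mem : toH U6 ∈ icosians := mem_icosians_of_mul U4_mem OM_mem (by decide)
theorem U7_mem : toH U7 ∈ icosians := mem_icosians_of_mul U5_mem OM_mem (by decide)

theorem one_mem_ico : toH one ∈ icosians := by rw [toH_one]; exact one_mem _

/-- Integer combinations of the unit basis lie in the icosians. -/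
theorem ucomb_mem (c0 c1 c2 c3 c4 c5 c6 c7 : ℤ) :
    toH (add (smul c0 one) (add (smul c1 QI) (add (smul c2 OM) (add (smul c3 U3) (add (smul c4 U4)
      (add (smul c5 U5) (add (smul c6 U6) (smul c7 U7)))))))) ∈ icosians := by
  simp only [toH_add, toH_smul, Int.cast_smul_eq_zsmul]
  exact add_mem (zsmul_mem one_mem_ico _) (add_mem (zsmul_mem QI_mem _) (add_mem (zsmul_mem OM_mem _)
    (add_mem (zsmul_mem U3_mem _) (add_mem (zsmul_mem U4_mem _) (add_mem (zsmul_mem U5_mem _)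
    (add_mem (zsmul_mem U6_mem _) (zsmul_mem U7_mem _)))))))

theorem Bv_mem (j : Fin 8) : toH (Bv j) ∈ icosians := by
  fin_cases j
  · have h := ucomb_mem (-2) (-1) 2 0 0 (-2) 1 1
    have e : add (smul (-2) one) (add (smul (-1) QI) (add (smul 2 OM) (add (smul 0 U3)
      (add (smul 0 U4) (add (smul (-2) U5) (add (smul 1 U6) (smul 1 U7))))))) = Bv 0 := by decide
    rwa [e] at h
  · have h := ucomb_mem (-1) 0 0 0 0 0 (-1) (-1)
    have e : add (smul (-1) one) (add (smul 0 QI) (add (smul 0 OM) (add (smul 0 U3)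
      (add (smul 0 U4) (add (smul 0 U5) (add (smul (-1) U6) (smul (-1) U7))))))) = Bv 1 := by decide
    rwa [e] at h
  · have h := ucomb_mem 1 (-1) 1 1 1 (-1) 0 2
    have e : add (smul 1 one) (add (smul (-1) QI) (add (smul 1 OM) (add (smul 1 U3)
      (add (smul 1 U4) (add (smul (-1) U5) (add (smul 0 U6) (smul 2 U7))))))) = Bv 2 := by decide
    rwa [e] at h
  · have h := ucomb_mem 0 1 0 (-1) 0 1 (-1) (-1)
    have e : add (smul 0 one) (add (smul 1 QI) (add (smul 0 OM) (add (smul (-1) U3)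
      (add (smul 0 U4) (add (smul 1 U5) (add (smul (-1) U6) (smul (-1) U7))))))) = Bv 3 := by decide
    rwa [e] at h
  · have h := ucomb_mem (-1) 1 (-1) (-1) (-1) 0 0 (-2)
    have e : add (smul (-1) one) (add (smul 1 QI) (add (smul (-1) OM) (add (smul (-1) U3)
      (add (smul (-1) U4) (add (smul 0 U5) (add (smul 0 U6) (smul (-2) U7))))))) = Bv 4 := by decide
    rwa [e] at h
  · have h := ucomb_mem 1 (-1) 1 1 1 0 (-1) 1
    have e : add (smul 1 one) (add (smul (-1) QI) (add (smul 1 OM) (add (smul 1 U3)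
      (add (smul 1 U4) (add (smul 0 U5) (add (smul (-1) U6) (smul 1 U7))))))) = Bv 5 := by decide
    rwa [e] at h
  · have h := ucomb_mem (-1) (-1) 2 0 1 (-1) 0 1
    have e : add (smul (-1) one) (add (smul (-1) QI) (add (smul 2 OM) (add (smul 0 U3)
      (add (smul 1 U4) (add (smul (-1) U5) (add (smul 0 U6) (smul 1 U7))))))) = Bv 6 := by decide
    rwa [e] at h
  · have h := ucomb_mem 1 1 (-1) (-1) 0 1 0 0
    have e : add (smul 1 one) (add (smul 1 QI) (add (smul (-1) OM) (add (smul (-1) U3)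
      (add (smul 0 U4) (add (smul 1 U5) (add (smul 0 U6) (smul 0 U7))))))) = Bv 7 := by decide
    rwa [e] at h

theorem icoRing_le : icoRing ≤ icosians := by
  intro q hq
  have hq' : q ∈ icoSet := hq
  rw [icoSet_eq_closure] at hq'
  have : AddSubgroup.closure (Set.range fun j : Fin 8 => toH (Bv j)) ≤ icosians.toAddSubgroup := by
    rw [AddSubgroup.closure_le]
    rintro _ ⟨j, rfl⟩
    exact Bv_mem j
  exact this hq'

/-- The icosian ring in integer coordinates. -/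
theorem mem_icosians_iff {q : ℍ[ℝ]} : q ∈ icosians ↔ ∃ X, codeOK X ∧ toH X = q :=
  ⟨fun h => icosians_le h, fun h => icoRing_le h⟩

theorem toH_mem_icosians {X : Q8} (h : codeOK X) : toH X ∈ icosians :=
  mem_icosians_iff.2 ⟨X, h, rfl⟩

end Q8

end Cfsg.Agent.Helper7.J2
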