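import Mathlib
import Cfsg.Prelude.Def_Spor_J2

/-!
# The icosian model of `J2`: integer coordinates

A quaternion with coordinates in `½ ℤ[τ]` is stored as eight integers
`(a0, a1, b0, b1, c0, c1, d0, d1)`, standing for
`½ ((a0 + a1 τ) + (b0 + b1 τ) i + (c0 + c1 τ) j + (d0 + d1 τ) k)`.
-/

set_option autoImplicit false

open Quaternion

namespace Cfsg.Agent.Helper7.J2

open Cfsg.Spor

theorem sqrt5_sq : Real.sqrt 5 ^ 2 = 5 := Real.sq_sqrt (by norm_num)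

theorem tau_sq : tau ^ 2 = tau + 1 := by
  unfold tau
  have h5 := sqrt5_sq
  nlinarith

theorem sig_eq : sig = 1 - tau := by unfold sig tau; ring

theorem sqrt5_eq : Real.sqrt 5 = 2 * tau - 1 := by unfold tau; ring

theorem tau_irrational : Irrational tau := by
  have h : Irrational (Real.sqrt 5) := by
    have := Nat.Prime.irrational_sqrt (p := 5) (by norm_num)
    simpa using this
  have h2 : Irrational ((1 : ℚ) + Real.sqrt 5) := h.ratCast_add 1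
  have h3 := h2.div_ratCast (q := 2) (by norm_num)
  unfold tau
  simpa using h3

/-- `1` and `τ` are linearly independent over `ℤ`. -/
theorem int_tau_eq_zero {a b : ℤ} (h : (a : ℝ) + b * tau = 0) : a = 0 ∧ b = 0 := by
  by_cases hb : b = 0
  · subst hb
    simp at h
    exact ⟨by exact_mod_cast h, rfl⟩
  · exfalso
    have hirr := tau_irrational
    apply hirr
    refine ⟨(-a : ℚ) / b, ?_⟩
    have hb' : (b : ℝ) ≠ 0 := by exact_mod_cast hb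
    push_cast
    field_simp
    linarith

theorem int_tau_inj {a b c d : ℤ} (h : (a : ℝ) + b * tau = c + d * tau) : a = c ∧ b = d := by
  have := int_tau_eq_zero (a := a - c) (b := b - d) (by push_cast; linarith)
  omega

/-- Eight integers standing for a quaternion with coordinates in `½ ℤ[τ]`. -/
structure Q8 where
  a0 : ℤ
  a1 : ℤ
  b0 : ℤ
  b1 : ℤ
  c0 : ℤ
  c1 : ℤ
  d0 : ℤ
  d1 : ℤ
deriving DecidableEq, Repr

namespace Q8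

/-- The real quaternion `½ (X)`. -/
noncomputable def toH (X : Q8) : ℍ[ℝ] :=
  ⟨((X.a0 : ℝ) + X.a1 * tau) / 2, ((X.b0 : ℝ) + X.b1 * tau) / 2,
   ((X.c0 : ℝ) + X.c1 * tau) / 2, ((X.d0 : ℝ) + X.d1 * tau) / 2⟩

@[simp] theorem toH_re (X : Q8) : (toH X).re = ((X.a0 : ℝ) + X.a1 * tau) / 2 := rfl
@[simp] theorem toH_imI (X : Q8) : (toH X).imI = ((X.b0 : ℝ) + X.b1 * tau) / 2 := rfl
@[simp] theorem toH_imJ (X : Q8) : (toH X).imJ = ((X.c0 : ℝ) + X.c1 * tau) / 2 := rfl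
@[simp] theorem toH_imK (X : Q8) : (toH X).imK = ((X.d0 : ℝ) + X.d1 * tau) / 2 := rfl

theorem toH_injective : Function.Injective toH := by
  intro X Y h
  have h1 := congrArg QuaternionAlgebra.re h
  have h2 := congrArg QuaternionAlgebra.imI h
  have h3 := congrArg QuaternionAlgebra.imJ h
  have h4 := congrArg QuaternionAlgebra.imK h
  simp only [toH_re, toH_imI, toH_imJ, toH_imK] at h1 h2 h3 h4
  have e1 := int_tau_inj (a := X.a0) (b := X.a1) (c := Y.a0) (d := Y.a1) (by linarith)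
  have e2 := int_tau_inj (a := X.b0) (b := X.b1) (c := Y.b0) (d := Y.b1) (by linarith)
  have e3 := int_tau_inj (a := X.c0) (b := X.c1) (c := Y.c0) (d := Y.c1) (by linarith)
  have e4 := int_tau_inj (a := X.d0) (b := X.d1) (c := Y.d0) (d := Y.d1) (by linarith)
  cases X; cases Y
  simp_all

def zero : Q8 := ⟨0, 0, 0, 0, 0, 0, 0, 0⟩
def one : Q8 := ⟨2, 0, 0, 0, 0, 0, 0, 0⟩

def add (X Y : Q8) : Q8 :=
  ⟨X.a0 + Y.a0, X.a1 + Y.a1, X.b0 + Y.b0, X.b1 + Y.b1, X.c0 + Y.c0, X.c1 + Y.c1, X.d0 + Y.d0, X.d1 + Y.d1⟩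

def neg (X : Q8) : Q8 := ⟨-X.a0, -X.a1, -X.b0, -X.b1, -X.c0, -X.c1, -X.d0, -X.d1⟩

def sub (X Y : Q8) : Q8 :=
  ⟨X.a0 - Y.a0, X.a1 - Y.a1, X.b0 - Y.b0, X.b1 - Y.b1, X.c0 - Y.c0, X.c1 - Y.c1, X.d0 - Y.d0, X.d1 - Y.d1⟩

def smul (n : ℤ) (X : Q8) : Q8 :=
  ⟨n * X.a0, n * X.a1, n * X.b0, n * X.b1, n * X.c0, n * X.c1, n * X.d0, n * X.d1⟩

/-- Quaternion conjugate. -/
def conj (X : Q8) : Q8 := ⟨X.a0, X.a1, -X.b0, -X.b1, -X.c0, -X.c1, -X.d0, -X.d1⟩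

/-- The product in `ℤ[τ]`: real part. -/
@[inline] def m0 (u v u' v' : ℤ) : ℤ := u * u' + v * v'
/-- The product in `ℤ[τ]`: `τ` part. -/
@[inline] def m1 (u v u' v' : ℤ) : ℤ := u * v' + v * u' + v * v'

/-- The raw product: stands for `4 x y` when `X`, `Y` stand for `2x`, `2y`; in other words
`toH (mulRaw X Y) = 2 * (toH X * toH Y)`. -/
def mulRaw (X Y : Q8) : Q8 :=
  ⟨m0 X.a0 X.a1 Y.a0 Y.a1 - m0 X.b0 X.b1 Y.b0 Y.b1 - m0 X.c0 X.c1 Y.c0 Y.c1 - m0 X.d0 X.d1 Y.d0 Y.d1,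
   m1 X.a0 X.a1 Y.a0 Y.a1 - m1 X.b0 X.b1 Y.b0 Y.b1 - m1 X.c0 X.c1 Y.c0 Y.c1 - m1 X.d0 X.d1 Y.d0 Y.d1,
   m0 X.a0 X.a1 Y.b0 Y.b1 + m0 X.b0 X.b1 Y.a0 Y.a1 + m0 X.c0 X.c1 Y.d0 Y.d1 - m0 X.d0 X.d1 Y.c0 Y.c1,
   m1 X.a0 X.a1 Y.b0 Y.b1 + m1 X.b0 X.b1 Y.a0 Y.a1 + m1 X.c0 X.c1 Y.d0 Y.d1 - m1 X.d0 X.d1 Y.c0 Y.c1,
   m0 X.a0 X.a1 Y.c0 Y.c1 - m0 X.b0 X.b1 Y.d0 Y.d1 + m0 X.c0 X.c1 Y.a0 Y.a1 + m0 X.d0 X.d1 Y.b0 Y.b1,
   m1 X.a0 X.a1 Y.c0 Y.c1 - m1 X.b0 X.b1 Y.d0 Y.d1 + m1 X.c0 X.c1 Y.a0 Y.a1 + m1 X.d0 X.d1 Y.b0 Y.b1,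
   m0 X.a0 X.a1 Y.d0 Y.d1 + m0 X.b0 X.b1 Y.c0 Y.c1 - m0 X.c0 X.c1 Y.b0 Y.b1 + m0 X.d0 X.d1 Y.a0 Y.a1,
   m1 X.a0 X.a1 Y.d0 Y.d1 + m1 X.b0 X.b1 Y.c0 Y.c1 - m1 X.c0 X.c1 Y.b0 Y.b1 + m1 X.d0 X.d1 Y.a0 Y.a1⟩

theorem toH_zero : toH zero = 0 := by
  ext <;> simp [zero]

theorem toH_one : toH one = 1 := by
  ext <;> simp [one]

theorem toH_add (X Y : Q8) : toH (add X Y) = toH X + toH Y := by
  ext <;> simp [add] <;> ring

theorem toH_neg (X : Q8) : toH (neg X) = -toH X := by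
  ext <;> simp [neg] <;> ring

theorem toH_sub (X Y : Q8) : toH (sub X Y) = toH X - toH Y := by
  ext <;> simp [sub] <;> ring

theorem toH_smul (n : ℤ) (X : Q8) : toH (smul n X) = (n : ℝ) • toH X := by
  ext <;> simp [smul] <;> ring

theorem toH_conj (X : Q8) : toH (conj X) = star (toH X) := by
  ext <;> simp [conj] <;> ring

theorem toH_mulRaw (X Y : Q8) : toH (mulRaw X Y) = (2 : ℝ) • (toH X * toH Y) := by
  have ht := tau_sq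
  ext
  · simp only [toH_re, toH_imI, toH_imJ, toH_imK, mulRaw, m0, m1, Quaternion.re_mul, Quaternion.re_smul, smul_eq_mul]
    push_cast
    linear_combination
      (-(1:ℝ)/2 * (X.a1 * Y.a1 - X.b1 * Y.b1 - X.c1 * Y.c1 - X.d1 * Y.d1)) * ht
  · simp only [toH_re, toH_imI, toH_imJ, toH_imK, mulRaw, m0, m1, Quaternion.imI_mul, Quaternion.imI_smul, smul_eq_mul]
    push_cast
    linear_combination
      (-(1:ℝ)/2 * (X.a1 * Y.b1 + X.b1 * Y.a1 + X.c1 * Y.d1 - X.d1 * Y.c1)) * ht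
  · simp only [toH_re, toH_imI, toH_imJ, toH_imK, mulRaw, m0, m1, Quaternion.imJ_mul, Quaternion.imJ_smul, smul_eq_mul]
    push_cast
    linear_combination
      (-(1:ℝ)/2 * (X.a1 * Y.c1 - X.b1 * Y.d1 + X.c1 * Y.a1 + X.d1 * Y.b1)) * ht
  · simp only [toH_re, toH_imI, toH_imJ, toH_imK, mulRaw, m0, m1, Quaternion.imK_mul, Quaternion.imK_smul, smul_eq_mul]
    push_cast
    linear_combination
      (-(1:ℝ)/2 * (X.a1 * Y.d1 + X.b1 * Y.c1 - X.c1 * Y.b1 + X.d1 * Y.a1)) * ht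

end Q8

end Cfsg.Agent.Helper7.J2
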