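import Mathlib

/-!
# The permutation representation of a group on a finite conjugation-stable family of its elements
-/

set_option autoImplicit false

namespace Cfsg.Agent.Helper7.J2

section

variable {G : Type*} [Group G] {n : ℕ} (rf : Fin n → G)
  (hconj : ∀ (g : G) (j : Fin n), ∃ k, g * rf j * g⁻¹ = rf k)

/-- The index of the conjugate of `rf j` by `g`. -/
noncomputable def conjIdx (g : G) (j : Fin n) : Fin n := Classical.choose (hconj g j)

theorem conjIdx_spec (g : G) (j : Fin n) : g * rf j * g⁻¹ = rf (conjIdx rf hconj g j) :=
  Classical.choose_spec (hconj g j)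

variable (hinj : Function.Injective rf)

include hinj in
theorem conjIdx_eq_iff (g : G) (j k : Fin n) : conjIdx rf hconj g j = k ↔ g * rf j * g⁻¹ = rf k := by
  constructor
  · rintro rfl; exact conjIdx_spec rf hconj g j
  · intro h
    apply hinj
    rw [← conjIdx_spec rf hconj g j, h]

include hinj in
theorem conjIdx_mul (g h : G) (j : Fin n) :
    conjIdx rf hconj (g * h) j = conjIdx rf hconj g (conjIdx rf hconj h j) := by
  rw [conjIdx_eq_iff rf hconj hinj]
  rw [← conjIdx_spec rf hconj g, ← conjIdx_spec rf hconj h]
  group

include hinj in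
theorem conjIdx_one (j : Fin n) : conjIdx rf hconj 1 j = j := by
  rw [conjIdx_eq_iff rf hconj hinj]
  group

/-- The conjugation action as permutations of the indices. -/
noncomputable def conjPerm (g : G) : Equiv.Perm (Fin n) where
  toFun := conjIdx rf hconj g
  invFun := conjIdx rf hconj g⁻¹
  left_inv j := by rw [← conjIdx_mul rf hconj hinj, inv_mul_cancel, conjIdx_one rf hconj hinj]
  right_inv j := by rw [← conjIdx_mul rf hconj hinj, mul_inv_cancel, conjIdx_one rf hconj hinj]

/-- The conjugation action as a homomorphism to the permutations of the indices. -/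
noncomputable def conjHom : G →* Equiv.Perm (Fin n) where
  toFun := conjPerm rf hconj hinj
  map_one' := by
    ext j
    show (conjIdx rf hconj 1 j : ℕ) = j
    rw [conjIdx_one rf hconj hinj]
  map_mul' g h := by
    ext j
    show (conjIdx rf hconj (g * h) j : ℕ) = conjIdx rf hconj g (conjIdx rf hconj h j)
    rw [conjIdx_mul rf hconj hinj]

theorem conjHom_apply (g : G) (j : Fin n) :
    conjHom rf hconj hinj g j = conjIdx rf hconj g j := rfl

theorem conjHom_apply_eq_iff (g : G) (j k : Fin n) :
    conjHom rf hconj hinj g j = k ↔ g * rf j * g⁻¹ = rf k :=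
  conjIdx_eq_iff rf hconj hinj g j k

theorem conjHom_ker (hgen : Subgroup.closure (Set.range rf) = ⊤) :
    (conjHom rf hconj hinj).ker = Subgroup.center G := by
  ext g
  rw [MonoidHom.mem_ker, Subgroup.mem_center_iff]
  constructor
  · intro h
    have hj : ∀ j, g * rf j = rf j * g := by
      intro j
      have h1 : conjHom rf hconj hinj g j = j := by rw [h]; rfl
      rw [conjHom_apply_eq_iff] at h1
      calc g * rf j = g * rf j * g⁻¹ * g := by group
        _ = rf j * g := by rw [h1]
    intro x
    have hx : x ∈ Subgroup.closure (Set.range rf) := by rw [hgen]; trivial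
    induction hx using Subgroup.closure_induction with
    | mem y hy =>
      obtain ⟨j, rfl⟩ := hy
      exact (hj j).symm
    | one => simp
    | mul a b _ _ ha hb => rw [mul_assoc, hb, ← mul_assoc, ha, mul_assoc]
    | inv a _ ha =>
      calc a⁻¹ * g = a⁻¹ * (g * a) * a⁻¹ := by group
        _ = a⁻¹ * (a * g) * a⁻¹ := by rw [ha]
        _ = g * a⁻¹ := by group
  · intro h
    ext j
    show (conjHom rf hconj hinj g j : ℕ) = j
    have : conjHom rf hconj hinj g j = j := by
      rw [conjHom_apply_eq_iff, ← h (rf j)]
      group
    rw [this]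

end

end Cfsg.Agent.Helper7.J2
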