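import Cfsg.Agent.Helper7.J2.MinVec
import Cfsg.Agent.Helper7.J2.BridgeChk
import Cfsg.Agent.Helper7.J2.ConjHom

/-!
# The icosian model of `J2`: the Hall–Janko group is isomorphic to the permutation group `G315`

The group `twoJ2` acts by conjugation on its 315 reflections; the kernel is its centre, and the image
is generated by the images of four reflections, which are the explicit permutations `g315 k`.
-/

set_option autoImplicit false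
set_option linter.constructorNameAsVariable false
set_option maxRecDepth 100000

open Quaternion Cfsg.Spor Cfsg.Agent.Helper91.J2A Cfsg.Agent.Helper91.J2B Cfsg.Agent.Helper68.J2C

namespace Cfsg.Agent.Helper7.J2

theorem lineAt_mem {j : ℕ} (hj : j < 315) : lineAt j ∈ linesC := by
  unfold lineAt
  rw [List.getD_eq_getElem _ _ (by rw [linesC_length]; exact hj)]
  exact List.getElem_mem _

theorem lineAt_inj {i j : ℕ} (hi : i < 315) (hj : j < 315) (h : lineAt i = lineAt j) : i = j := by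
  unfold lineAt at h
  rw [List.getD_eq_getElem _ _ (by rw [linesC_length]; exact hi),
    List.getD_eq_getElem _ _ (by rw [linesC_length]; exact hj)] at h
  exact (List.Nodup.getElem_inj_iff linesC_nodup).1 h

theorem exists_lineAt {l : ℕ × ℕ × ℕ} (hl : l ∈ linesC) : ∃ j, j < 315 ∧ lineAt j = l := by
  obtain ⟨j, hj, rfl⟩ := List.mem_iff_getElem.1 hl
  refine ⟨j, by rwa [linesC_length] at hj, ?_⟩
  unfold lineAt
  rw [List.getD_eq_getElem _ _ hj]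

theorem lineRefl_mem {l : ℕ × ℕ × ℕ} (hl : l ∈ linesC) : lineRefl l ∈ twoJ2 := by
  rw [lineRefl_eq hl (lineV_min hl).1 (lineV_min hl).2]
  exact reflPerm_mem_twoJ2 _ _ _

/-- The 315 reflections, as elements of `twoJ2`. -/
noncomputable def r315 (j : Fin 315) : ↥twoJ2 :=
  ⟨lineRefl (lineAt j), lineRefl_mem (lineAt_mem j.2)⟩

theorem r315_injective : Function.Injective r315 := by
  intro i j h
  have h1 : lineRefl (lineAt i) = lineRefl (lineAt j) := congrArg Subtype.val h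
  have h2 := lineRefl_injOn (by simpa using lineAt_mem i.2) (by simpa using lineAt_mem j.2) h1
  exact Fin.ext (lineAt_inj i.2 j.2 h2)

theorem isIcoReflection_iff_r315 {f : Equiv.Perm icoLeech} :
    IsIcoReflection f ↔ ∃ j, f = (r315 j : Equiv.Perm icoLeech) := by
  rw [isIcoReflection_iff]
  constructor
  · rintro ⟨l, hl, rfl⟩
    obtain ⟨j, hj, rfl⟩ := exists_lineAt hl
    exact ⟨⟨j, hj⟩, rfl⟩
  · rintro ⟨j, rfl⟩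
    exact ⟨lineAt j, lineAt_mem j.2, rfl⟩

theorem r315_conj (g : ↥twoJ2) (j : Fin 315) : ∃ k, g * r315 j * g⁻¹ = r315 k := by
  have hl := lineAt_mem j.2
  obtain ⟨hr', h4', h⟩ := conj_reflPerm g.2 (lineV (lineAt j)) (lineV_min hl).1 (lineV_min hl).2
  have hrefl : IsIcoReflection ((g : Equiv.Perm icoLeech) * lineRefl (lineAt j) *
      (g : Equiv.Perm icoLeech)⁻¹) := by
    rw [lineRefl_eq hl (lineV_min hl).1 (lineV_min hl).2, h]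
    exact isIcoReflection_reflPerm _ _ _
  obtain ⟨k, hk⟩ := isIcoReflection_iff_r315.1 hrefl
  exact ⟨k, Subtype.ext hk⟩

theorem r315_closure : Subgroup.closure (Set.range r315) = ⊤ := by
  have h := Subgroup.closure_closure_coe_preimage (k := {f : Equiv.Perm icoLeech | IsIcoReflection f})
  have hset : Set.range r315 = ((↑) : ↥twoJ2 → Equiv.Perm icoLeech) ⁻¹'
      {f : Equiv.Perm icoLeech | IsIcoReflection f} := by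
    ext g
    simp only [Set.mem_range, Set.mem_preimage, Set.mem_ofPred_eq]
    rw [isIcoReflection_iff_r315]
    constructor
    · rintro ⟨j, rfl⟩; exact ⟨j, rfl⟩
    · rintro ⟨j, hj⟩; exact ⟨j, Subtype.ext hj.symm⟩
  rw [hset]
  exact h

/-- The permutation representation of `twoJ2` on its 315 reflections. -/
noncomputable def phi : ↥twoJ2 →* Equiv.Perm (Fin 315) := conjHom r315 r315_conj r315_injective

theorem phi_ker : phi.ker = Subgroup.center ↥twoJ2 :=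
  conjHom_ker r315 r315_conj r315_injective r315_closure

theorem phi_apply_eq_iff (g : ↥twoJ2) (j k : Fin 315) : phi g j = k ↔ g * r315 j * g⁻¹ = r315 k :=
  conjHom_apply_eq_iff r315 r315_conj r315_injective g j k

theorem reflPerm_congr {r r' : Fin 3 → ℍ[ℝ]} (h : r = r') (hr : r ∈ icoLeech) (h4 : qip r r = 4)
    (hr' : r' ∈ icoLeech) (h4' : qip r' r' = 4) : reflPerm r hr h4 = reflPerm r' hr' h4' := by
  subst h; rfl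

/-- Conjugating the reflection in `b` by the reflection in `a` gives the reflection in `c` when the
reflection in `a` maps `b` to a unit multiple of `c`. -/
theorem lineRefl_conj {a b c : ℕ × ℕ × ℕ} (ha : a ∈ linesC) (hb : b ∈ linesC) (hc : c ∈ linesC)
    {u : ℍ[ℝ]} (hu : u ∈ icosians) (hu1 : u * star u = 1)
    (h : qrefl (lineV a) (lineV b) = lsmul u (lineV c)) :
    lineRefl a * lineRefl b * (lineRefl a)⁻¹ = lineRefl c := by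
  rw [lineRefl_eq ha (lineV_min ha).1 (lineV_min ha).2, lineRefl_eq hb (lineV_min hb).1 (lineV_min hb).2,
    lineRefl_eq hc (lineV_min hc).1 (lineV_min hc).2]
  obtain ⟨hr', h4', e⟩ := conj_reflPerm (reflPerm_mem_twoJ2 (lineV a) (lineV_min ha).1 (lineV_min ha).2)
    (lineV b) (lineV_min hb).1 (lineV_min hb).2
  rw [e]
  have h' : ((reflPerm (lineV a) (lineV_min ha).1 (lineV_min ha).2 ⟨lineV b, (lineV_min hb).1⟩ :
      icoLeech) : Fin 3 → ℍ[ℝ]) = lsmul u (lineV c) := h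
  exact (reflPerm_congr h' _ _ (icoLeech_lsmul hu (lineV_min hc).1)
    (qip_lsmul_unit hu1 (lineV_min hc).2)).trans
    (reflPerm_unit_lsmul u hu hu1 (lineV c) (lineV_min hc).1 (lineV_min hc).2 _ _)

/-- The index of the `k`-th generating reflection. -/
def genIdx (k : Fin 4) : Fin 315 := ⟨genLine k, by fin_cases k <;> decide⟩

theorem g315_val (k : Fin 4) (j : Fin 315) : ((g315 k j : Fin 315) : ℕ) = (g315tab k).getD j.1 0 := by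
  show (g315tab k).getD j.1 0 % 315 = _
  exact Nat.mod_eq_of_lt (g315tab_lt k j)

theorem bridgeChk1_all (k : Fin 4) (j : Fin 315) : bridgeChk1 k j.1 = true := by
  have hj : j.1 ∈ List.range 315 := List.mem_range.2 j.2
  fin_cases k
  · exact List.all_eq_true.1 bridgeChk_0 _ hj
  · exact List.all_eq_true.1 bridgeChk_1 _ hj
  · exact List.all_eq_true.1 bridgeChk_2 _ hj
  · exact List.all_eq_true.1 bridgeChk_3 _ hj

theorem bridge_cert (k : Fin 4) (j : Fin 315) :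
    ∃ u : ℍ[ℝ], u ∈ icosians ∧ u * star u = 1 ∧
      qrefl (lineV (lineAt (genIdx k))) (lineV (lineAt j)) =
        lsmul u (lineV (lineAt ((g315 k j : Fin 315) : ℕ))) := by
  have h := bridgeChk1_all k j
  simp only [bridgeChk1, Bool.and_eq_true] at h
  obtain ⟨h1, h2, h3⟩ := h
  obtain ⟨hu, hu1⟩ := Q8.isUnitRaw_sound h1
  refine ⟨_, hu, hu1, ?_⟩
  rw [g315_val]
  have e1 := reflCheck_sound h3
  rw [lsmulRaw_sound h2] at e1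
  exact e1

theorem phi_gen (k : Fin 4) : phi (r315 (genIdx k)) = g315 k := by
  ext j
  have : phi (r315 (genIdx k)) j = g315 k j := by
    rw [phi_apply_eq_iff]
    obtain ⟨u, hu, hu1, h⟩ := bridge_cert k j
    apply Subtype.ext
    exact lineRefl_conj (lineAt_mem (genIdx k).2) (lineAt_mem j.2) (lineAt_mem (g315 k j).2) hu hu1 h
  rw [this]

/-- Words in the generators mapping `0` to each point. -/
def transWords : List (List (Fin 4)) := [[], [0, 2, 1, 2, 3, 0, 1], [2, 3, 1, 0, 3, 1, 2], [1, 0, 2, 3, 1, 0, 2, 1], [1, 3], [3, 1], [1, 0, 2, 3, 0, 2, 1, 2], [2, 1, 3, 0, 1, 3, 2], [2, 1, 2, 3, 0, 1], [3, 1, 3, 1], [1, 0, 2, 3, 1, 3], [1, 0, 2, 0, 3, 2, 1], [0, 1, 3, 1, 2, 1], [1, 3, 1, 2, 1], [0, 1, 2, 1], [1, 2, 1], [0, 2, 3, 1, 2, 3], [2, 3, 1, 2, 3], [0, 3, 2, 0, 1, 2], [3, 2, 0, 1, 2], [2, 3, 0, 2, 1], [2, 1, 0, 2, 3], [0, 2, 1,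 2], [2, 1, 2], [1, 3, 2, 1, 2], [0, 1, 3, 2, 1, 2], [2, 1, 0, 3, 2, 0, 1], [3, 2, 0, 3, 1, 2], [1, 2, 1, 3], [0, 1, 0, 3, 2, 1, 2], [3, 2, 0, 1], [2, 3, 0, 1, 2, 1], [1, 3, 2, 1, 3, 1], [0, 3, 2, 0, 1], [1, 0, 3, 2, 1, 2], [3, 0, 1, 0, 2], [1, 0, 3, 1, 2], [1, 2, 1, 3, 1], [1, 3, 1, 2, 1, 0, 3, 2], [3, 1, 0, 3, 1, 2, 1], [1, 2, 1, 0, 3, 2], [0, 3, 0, 2], [3, 0, 2], [1, 3, 1, 0, 2, 3], [3, 1, 0, 3, 1, 0, 2, 1], [2, 0, 1, 0, 3, 1, 2, 1], [2, 3, 2, 1, 3, 1], [1, 2], [2, 0, 3, 2, 0, 1], [1, 3, 2, 0, 1, 3, 2], [2, 1, 3, 1, 2, 3], [2, 1, 2, 3, 2, 1], [0, 1, 2], [1, 3, 0, 2, 3, 2, 1], [2, 3, 0, 1], [0, 2, 3, 0, 1], [3, 0, 1, 2, 3, 2], [1, 3, 0, 1, 0, 2], [0, 1, 2, 1, 3, 2, 1], [0, 2, 1], [2, 1], [1, 2, 1, 3, 2, 1], [1, 0, 2, 1, 3], [3, 2, 1, 3, 2, 1], [2, 3, 1, 0, 2], [0, 2, 3, 1, 0, 2], [2, 1, 2, 3, 1], [2, 0, 1, 3, 2], [3, 0, 1, 2, 3],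 [2, 0, 1, 0, 3, 2], [0, 1, 0, 2, 3], [3, 0, 2, 1, 2], [0, 3, 0, 2, 1, 2], [1, 0, 2, 3], [3, 1, 0, 2, 3, 0, 1], [0, 3, 0, 1, 2, 3], [3, 2, 1, 3, 2], [0, 3, 2, 1, 3, 2], [2, 1, 3, 1], [1, 0, 2, 3, 0, 1], [0, 3, 1, 2, 1], [2, 1, 0, 2, 0, 1], [3, 2, 1, 0, 3], [3, 1, 2, 1], [2, 3, 1, 3, 2, 1], [1, 3, 1, 2], [0, 3, 1, 2, 3], [2, 3, 0, 1, 0, 2], [0, 1, 3, 1, 2, 3, 2], [0, 3, 2, 1, 3, 1], [3, 2, 1, 3, 1], [1, 3, 1, 2, 3, 2], [1, 3, 0, 1, 3, 2, 1], [3, 1, 2, 3], [1, 0, 3, 2], [0, 1, 0, 3, 2], [3, 0, 2, 3, 0, 1], [1, 3, 0, 2, 1], [0, 2, 0, 3, 1, 2], [3, 1, 0, 3, 2], [3, 2, 1, 3], [2, 0, 3, 1, 2], [0, 1, 3, 0, 2, 1], [3, 1, 2, 3, 2, 1], [3, 1, 3, 2, 0, 1], [0, 3, 1, 3, 2, 0, 1], [0, 1, 2, 0, 3, 2, 0, 1], [1, 2, 0, 3, 2, 0, 1], [2, 3, 1, 0, 3, 2], [0, 2, 3, 1, 0, 3, 2], [3, 2, 1, 3, 1, 2, 1], [1, 3, 0, 2, 1, 2], [2, 3, 2, 1, 2], [3, 2, 1, 2,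 1], [0, 1, 0, 3, 1, 0, 2, 1], [1, 0, 3, 1, 0, 2, 1], [3, 1, 3, 2, 1], [0, 3, 1, 3, 2, 1], [1, 2, 3, 1, 2], [1, 3, 0, 1, 2, 1], [3, 2, 1], [0, 3, 2, 1], [3, 2, 1, 0, 3, 2], [1, 0, 3, 1, 2, 3], [0, 2, 3, 1, 2], [2, 3, 1, 2], [3, 1, 3, 2, 1, 3], [2, 3, 1, 2, 3, 1], [3, 0, 2, 3, 1], [3, 0, 2, 3, 2, 1], [1, 3, 0, 1, 2, 3, 2], [1, 3, 0, 1, 0, 2, 3], [3, 0, 1, 2, 3, 0, 1], [3, 0, 1, 3, 1, 0, 2], [3, 1, 3, 2], [0, 3, 1, 3, 2], [1, 0, 2], [0, 1, 0, 2], [1, 0, 2, 1, 2], [1, 0, 2, 1, 2, 1], [3, 0, 1, 2], [1, 0, 2, 3, 1], [1, 2, 1, 0, 3], [2, 1, 2, 3], [2, 3, 1, 3, 0, 2, 1], [3, 2, 0, 1, 0, 2], [3, 1, 3, 1, 0, 2, 1], [1, 2, 3, 0, 2, 1], [1, 2, 0, 1, 3, 2], [3, 1, 0, 2, 0, 1], [0, 3, 1, 0, 2, 1], [3, 1, 0, 2, 1], [1, 3, 2, 0, 1], [2, 0, 1, 2, 3], [2, 3, 2, 1], [0, 2, 3, 2, 1], [0, 2, 0, 1], [2, 0, 1], [3, 0, 1, 3, 1, 2, 3], [2, 3, 1, 0, 2, 0,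 1], [1, 3, 1, 0, 3, 2], [3, 0, 2, 3, 1, 3, 1], [1, 3, 1, 0, 2], [0, 1, 3, 1, 0, 2], [0, 2, 3], [2, 3], [3, 2, 1, 0, 3, 1, 2], [2, 0, 3, 1, 0, 2, 1], [0, 2, 0, 1, 2, 1], [2, 0, 1, 2, 1], [0, 2, 1, 0, 3, 1, 2], [2, 1, 0, 3, 1, 2], [2, 3, 1, 3], [0, 2, 3, 1, 3], [2, 1, 3, 1, 2], [2, 1, 0, 3], [3, 1, 3, 1, 2, 1], [3, 2, 0, 3, 2, 1], [0, 3, 1, 0, 2, 3], [3, 1, 0, 2, 3], [3, 1, 0, 3, 2, 0, 1], [3, 2, 0, 1, 3, 2], [3, 0, 1, 3, 2], [2, 3, 1, 2, 1], [0, 1, 3, 2, 1], [1, 3, 2, 1], [1, 0, 3, 1, 3, 2], [3, 2, 1, 0, 2, 3, 1], [1, 3, 2, 1, 3, 2], [2, 1, 0, 3, 2, 1], [0, 3, 2], [3, 2], [2, 1, 0, 2, 1, 2, 1], [2, 0, 3, 0, 2, 0, 1], [3, 1, 3, 2, 1, 3, 1], [2, 0, 3, 1, 2, 3, 1], [2, 1, 3, 2], [1, 2, 3, 1], [0, 2, 3, 0, 1, 2], [2, 3, 0, 1, 2], [0, 1, 2, 3, 2], [1, 2, 3, 2], [3, 2, 1, 2, 3, 1], [0, 1, 3, 1, 2, 3], [3, 0, 1, 0, 2, 3], [3, 2, 1, 3, 1,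 2], [3, 2, 1, 0, 2, 0, 1], [1, 3, 2, 1, 3, 2, 1], [1, 3, 1, 2, 3], [1, 0, 3, 2, 0, 1], [0, 3, 1, 0, 2], [3, 1, 0, 2], [1, 3, 2, 1, 3], [2, 1, 0, 2, 3, 1], [1, 3, 0, 2, 3, 1], [2, 3, 2, 1, 3, 2, 1], [0, 3, 1, 2], [3, 1, 2], [2, 0, 3, 1, 2, 1], [2, 3, 0, 1, 3, 2], [1, 3, 2], [0, 1, 3, 2], [1, 3, 0, 2], [1, 2, 3, 2, 1], [0, 3, 1, 2, 3, 1], [3, 1, 2, 3, 1], [2, 3, 0, 2, 1, 2], [0, 2, 3, 0, 2, 1, 2], [1, 0, 3], [1, 3, 1], [0, 2, 1, 2, 0, 1, 3, 2], [2, 1, 2, 0, 1, 3, 2], [0, 1], [1], [3, 1, 3], [3, 0, 1], [2, 0, 3, 2, 1, 3, 1], [2, 1, 3, 0, 2, 3, 2, 1], [3], [0, 3], [0, 2, 3, 1, 0, 2, 1], [2, 3, 1, 0, 2, 1], [2, 1, 2, 3, 2], [2, 1, 3, 1, 2, 1], [0, 2, 1, 2, 1], [2, 1, 2, 1], [1, 0, 3, 1, 2, 1], [0, 1, 0, 3, 1, 2, 1], [3, 0, 1, 3, 2, 1], [2, 3, 1, 0, 2, 3], [1, 0, 3, 1, 3, 2, 1], [1, 3, 2, 0, 3, 2, 1], [1, 2, 1, 0, 2, 3], [3, 1, 3, 0, 2,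 1], [3, 2, 1, 2], [0, 3, 2, 1, 2], [0, 3, 0, 2, 1], [3, 0, 2, 1], [2, 0, 3, 2, 1], [0, 2, 0, 3, 2, 1], [1, 3, 1, 0, 2, 1], [0, 1, 3, 1, 0, 2, 1], [2, 3, 2, 1, 3], [0, 2, 3, 2, 1, 3], [1, 0, 2, 1], [2, 0, 1, 2], [3, 0, 1, 2, 1], [0, 3, 0, 1, 2, 1], [1, 0, 3, 2, 1], [0, 1, 0, 3, 2, 1], [3, 1, 0, 2, 0, 3, 2, 1], [2, 1, 2, 1, 3, 2, 1], [3, 2, 1, 0, 2, 3], [2, 1, 0, 2, 3, 0, 1], [0, 2, 3, 1], [2, 3, 1], [0, 2, 3, 1, 3, 1], [2, 3, 1, 3, 1], [0, 3, 1, 3, 1, 2], [3, 1, 3, 1, 2], [3, 1, 0, 3, 1, 2], [3, 2, 0, 1, 2, 1], [2, 3, 2, 0, 1, 2, 1], [1, 3, 0, 1, 3, 2], [0, 1, 2, 3, 0, 1], [1, 2, 3, 0, 1], [2], [0, 2], [2, 1, 3], [0, 2, 1, 3], [0, 3, 0, 2, 0, 1], [3, 0, 2, 0, 1], [3, 1, 2, 3, 2], [2, 1, 3, 2, 1], [1, 3, 1, 0, 3, 2, 0, 1], [2, 1, 3, 0, 1, 0, 2], [1, 2, 3], [0, 1, 2, 3], [0, 2, 1, 0, 3, 2], [2, 1, 0, 3, 2], [1, 3, 1, 0, 2, 0, 1], [2,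 1, 2, 1, 3, 1], [1, 3, 2, 0, 1, 0, 2], [0, 1, 3, 2, 0, 1, 0, 2], [1, 2, 1, 3, 1, 2], [2, 1, 2, 1, 3], [3, 2, 1, 2, 3], [3, 1, 2, 1, 0, 3, 2], [2, 0, 1, 0, 2], [2, 0, 1, 3, 1, 0, 2], [1, 0, 2, 0, 1], [3, 1, 2, 1, 3, 2, 1], [2, 3, 2], [3, 0, 2, 3, 1, 0, 2], [1, 0, 2, 1, 2, 3, 0, 1]]

/-- Apply a word to a point. -/
def applyW (w : List (Fin 4)) (x : Fin 315) : Fin 315 := w.foldr (fun i y => g315fun i y) x

set_option maxHeartbeats 0 in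
theorem transWords_ok : ∀ j : Fin 315, applyW (transWords.getD j.1 []) 0 = j := by decide +kernel

/-- The product of a word. -/
noncomputable def evalW (w : List (Fin 4)) : ↥twoJ2 := (w.map fun i => r315 (genIdx i)).prod

theorem phi_evalW (w : List (Fin 4)) (x : Fin 315) : phi (evalW w) x = applyW w x := by
  induction w with
  | nil => simp [evalW, applyW]
  | cons i w ih =>
    have : evalW (i :: w) = r315 (genIdx i) * evalW w := by simp [evalW]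
    rw [this, map_mul, Equiv.Perm.mul_apply, ih, phi_gen]
    rfl

/-- The subgroup generated by the four generating reflections. -/
noncomputable def W4 : Subgroup ↥twoJ2 := Subgroup.closure (Set.range fun k : Fin 4 => r315 (genIdx k))

theorem evalW_mem (w : List (Fin 4)) : evalW w ∈ W4 := by
  apply Subgroup.list_prod_mem
  intro x hx
  obtain ⟨i, _, rfl⟩ := List.mem_map.1 hx
  exact Subgroup.subset_closure ⟨i, rfl⟩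

theorem genIdx_zero : genIdx 0 = 0 := rfl

theorem r315_mem_W4 (j : Fin 315) : r315 j ∈ W4 := by
  have h1 : phi (evalW (transWords.getD j.1 [])) 0 = j := by rw [phi_evalW, transWords_ok]
  rw [phi_apply_eq_iff] at h1
  rw [← h1]
  have h0 : r315 0 ∈ W4 := Subgroup.subset_closure ⟨0, rfl⟩
  exact W4.mul_mem (W4.mul_mem (evalW_mem _) h0) (W4.inv_mem (evalW_mem _))

theorem W4_eq_top : W4 = ⊤ := by
  rw [eq_top_iff, ← r315_closure, Subgroup.closure_le]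
  rintro _ ⟨j, rfl⟩
  exact r315_mem_W4 j

theorem phi_range : phi.range = G315 := by
  rw [MonoidHom.range_eq_map, ← W4_eq_top, W4, MonoidHom.map_closure, G315]
  congr 1
  ext x
  constructor
  · rintro ⟨_, ⟨k, rfl⟩, rfl⟩; exact ⟨k, (phi_gen k).symm⟩
  · rintro ⟨k, rfl⟩; exact ⟨_, ⟨k, rfl⟩, phi_gen k⟩

/-- Every reflection maps to a conjugate of `g315 0`. -/
theorem phi_reflection (f : Equiv.Perm icoLeech) (hf : IsIcoReflection f) (hfm : f ∈ twoJ2) :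
    ∃ x : ↥G315, phi ⟨f, hfm⟩ = x * g315 0 * x⁻¹ := by
  obtain ⟨j, hj⟩ := isIcoReflection_iff_r315.1 hf
  have h1 : phi (evalW (transWords.getD j.1 [])) 0 = j := by rw [phi_evalW, transWords_ok]
  rw [phi_apply_eq_iff] at h1
  have h2 : (⟨f, hfm⟩ : ↥twoJ2) = r315 j := Subtype.ext hj
  have hx : phi (evalW (transWords.getD j.1 [])) ∈ G315 := by
    rw [← phi_range]; exact ⟨_, rfl⟩
  refine ⟨⟨_, hx⟩, ?_⟩
  rw [h2, ← h1, map_mul, map_mul, map_inv]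
  have : phi (r315 0) = g315 0 := by rw [← genIdx_zero, phi_gen]
  rw [this]
  rfl

/-- The Hall–Janko group is isomorphic to the permutation group `G315`, with the reflections
corresponding to the conjugates of `g315 0`. -/
theorem bridge : ∃ e : J2 ≃* ↥G315, ∀ (f : Equiv.Perm ↥icoLeech) (_hf : IsIcoReflection f)
    (hfm : f ∈ twoJ2), ∃ x : ↥G315,
      (e (QuotientGroup.mk ⟨f, hfm⟩) : Equiv.Perm (Fin 315)) = x * g315 0 * x⁻¹ := by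
  let e1 : J2 ≃* ↥twoJ2 ⧸ phi.ker := QuotientGroup.quotientMulEquivOfEq phi_ker.symm
  let e2 : ↥twoJ2 ⧸ phi.ker ≃* ↥phi.range := QuotientGroup.quotientKerEquivRange phi
  let e3 : ↥phi.range ≃* ↥G315 := MulEquiv.subgroupCongr phi_range
  refine ⟨(e1.trans e2).trans e3, ?_⟩
  intro f hf hfm
  obtain ⟨x, hx⟩ := phi_reflection f hf hfm
  refine ⟨x, ?_⟩
  rw [← hx]
  rfl

end Cfsg.Agent.Helper7.J2
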