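import Cfsg.Agent.Helper7.J2.Bridge

/-!
# The icosian model of `J2`: four elements of `twoJ2` moving the frame vector `E 0`

Words in reflections mapping `E 0 = (2, 0, 0)` to `i • E 0`, `ω • E 0`, `E 1`, `E 2`, with kernel-checked
certificates.
-/

set_option autoImplicit false
set_option linter.constructorNameAsVariable false
set_option maxRecDepth 100000

open Quaternion Cfsg.Spor Cfsg.Agent.Helper91.J2A Cfsg.Agent.Helper91.J2B Cfsg.Agent.Helper68.J2C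

namespace Cfsg.Agent.Helper7.J2

/-- Check a word of reflections: each step maps the current vector to the given image. -/
def wordChk : List (ℕ × V3) → V3 → Bool
  | [], _ => true
  | (k, Y) :: rest, X => decide (k < 315) && (reflCheck (dec3 (lineAt k)) X Y && wordChk rest Y)

/-- The final vector of a word. -/
def endOf : List (ℕ × V3) → V3 → V3
  | [], X => X
  | (_, Y) :: rest, _ => endOf rest Y

theorem word_sound : ∀ (ws : List (ℕ × V3)) (X : V3), wordChk ws X = true →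
    ∃ g ∈ twoJ2, ∀ x : icoLeech, (x : Fin 3 → ℍ[ℝ]) = toV X →
      ((g x : icoLeech) : Fin 3 → ℍ[ℝ]) = toV (endOf ws X)
  | [], X, _ => ⟨1, twoJ2.one_mem, fun x hx => hx⟩
  | (k, Y) :: rest, X, h => by
    simp only [wordChk, Bool.and_eq_true, decide_eq_true_eq] at h
    obtain ⟨hk, hc, hrest⟩ := h
    obtain ⟨g, hg, hgx⟩ := word_sound rest Y hrest
    have hl := lineAt_mem hk
    refine ⟨g * lineRefl (lineAt k), twoJ2.mul_mem hg (lineRefl_mem hl), ?_⟩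
    intro x hx
    rw [Equiv.Perm.mul_apply]
    apply hgx
    rw [lineRefl_apply hl, hx]
    exact reflCheck_sound hc

/-- The raw `E 0`. -/
def rawE (t : Fin 3) : V3 :=
  match t with
  | 0 => (Q8.two, Q8.zero, Q8.zero)
  | 1 => (Q8.zero, Q8.two, Q8.zero)
  | 2 => (Q8.zero, Q8.zero, Q8.two)

theorem toV_rawE (t : Fin 3) : toV (rawE t) = E t := by
  funext s
  fin_cases t <;> fin_cases s <;> simp [rawE, toV, E, Q8.toH_two, Q8.toH_zero]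

/-- The word for `i`: pairs (line, image so far). -/
def word_i : List (ℕ × V3) := [(208, (⟨0, 0, 0, 0, 0, 0, 0, 0⟩, ⟨0, 0, 0, 0, 0, 0, 0, 0⟩, ⟨0, 0, -4, 0, 0, 0, 0, 0⟩)), (202, (⟨0, 0, 4, 0, 0, 0, 0, 0⟩, ⟨0, 0, 0, 0, 0, 0, 0, 0⟩, ⟨0, 0, 0, 0, 0, 0, 0, 0⟩))]

/-- The word for `w`: pairs (line, image so far). -/
def word_w : List (ℕ × V3) := [(29, (⟨2, 0, 0, 0, 0, 0, 0, 0⟩, ⟨-2, 0, 0, 0, 0, 0, 0, 0⟩, ⟨1, -2, -1, 0, -1, 0, -1, 0⟩)), (227, (⟨1, -1, 2, -1, 0, 0, -1, 0⟩, ⟨-1, -1, 0, -1, 0, 0, -1, 0⟩, ⟨0, -1, -1, 1, -1, 0, 0, 0⟩)), (10, (⟨2, 0, 2, -2, 0, 0, 0, 2⟩, ⟨0, 0, 0, 0, 0, 0, 0, 0⟩, ⟨0, 0, 0, 0, 0, 0, 0, 0⟩))]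

/-- The word for `e1`: pairs (line, image so far). -/
def word_e1 : List (ℕ × V3) := [(313, (⟨0, 0, 0, 0, 0, 0, 0, 0⟩, ⟨4, 0, 0, 0, 0, 0, 0, 0⟩, ⟨0, 0, 0, 0, 0, 0, 0, 0⟩))]

/-- The word for `e2`: pairs (line, image so far). -/
def word_e2 : List (ℕ × V3) := [(209, (⟨0, 0, 0, 0, 0, 0, 0, 0⟩, ⟨0, 0, 0, 0, 0, 0, 0, 0⟩, ⟨4, 0, 0, 0, 0, 0, 0, 0⟩))]

theorem word_i_ok : wordChk word_i (rawE 0) = true ∧ endOf word_i (rawE 0) = lsmulRaw Q8.QI (rawE 0) ∧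
    lsmulOk Q8.QI (rawE 0) = true := by decide +kernel

theorem word_w_ok : wordChk word_w (rawE 0) = true ∧ endOf word_w (rawE 0) = lsmulRaw Q8.OM (rawE 0) ∧
    lsmulOk Q8.OM (rawE 0) = true := by decide +kernel

theorem word_e1_ok : wordChk word_e1 (rawE 0) = true ∧ endOf word_e1 (rawE 0) = rawE 1 := by
  decide +kernel

theorem word_e2_ok : wordChk word_e2 (rawE 0) = true ∧ endOf word_e2 (rawE 0) = rawE 2 := by
  decide +kernel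

/-- The four elements of `twoJ2` needed to determine the centre. -/
theorem exists_frame_movers :
    ∃ gi ∈ twoJ2, ∃ gw ∈ twoJ2, ∃ h1 ∈ twoJ2, ∃ h2 ∈ twoJ2,
      ((gi ⟨E 0, E_mem 0⟩ : icoLeech) : Fin 3 → ℍ[ℝ]) = lsmul qI (E 0) ∧
      ((gw ⟨E 0, E_mem 0⟩ : icoLeech) : Fin 3 → ℍ[ℝ]) =
        lsmul (⟨1 / 2, sig / 2, 0, tau / 2⟩ : ℍ[ℝ]) (E 0) ∧
      ((h1 ⟨E 0, E_mem 0⟩ : icoLeech) : Fin 3 → ℍ[ℝ]) = E 1 ∧
      ((h2 ⟨E 0, E_mem 0⟩ : icoLeech) : Fin 3 → ℍ[ℝ]) = E 2 := by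
  obtain ⟨gi, hgi, egi⟩ := word_sound word_i (rawE 0) word_i_ok.1
  obtain ⟨gw, hgw, egw⟩ := word_sound word_w (rawE 0) word_w_ok.1
  obtain ⟨h1, hh1, eh1⟩ := word_sound word_e1 (rawE 0) word_e1_ok.1
  obtain ⟨h2, hh2, eh2⟩ := word_sound word_e2 (rawE 0) word_e2_ok.1
  have e0 : ((⟨E 0, E_mem 0⟩ : icoLeech) : Fin 3 → ℍ[ℝ]) = toV (rawE 0) := (toV_rawE 0).symm
  refine ⟨gi, hgi, gw, hgw, h1, hh1, h2, hh2, ?_, ?_, ?_, ?_⟩
  · rw [egi _ e0, word_i_ok.2.1, lsmulRaw_sound word_i_ok.2.2, Q8.toH_QI, toV_rawE]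
  · rw [egw _ e0, word_w_ok.2.1, lsmulRaw_sound word_w_ok.2.2, Q8.toH_OM, toV_rawE]
  · rw [eh1 _ e0, word_e1_ok.2, toV_rawE]
  · rw [eh2 _ e0, word_e2_ok.2, toV_rawE]

end Cfsg.Agent.Helper7.J2
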