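import Cfsg.Agent.Helper7.J2.Ideal

/-!
# The icosian model of `J2`: definitions for the verified enumeration of the minimal vectors

The raw icosians `X` with `N0 X ≤ 16` are listed by codes (`WlN`; a coordinate `u ∈ [-4, 4]` is stored
as the hexadecimal digit `u + 4`), sorted by a table into groups according to the parities of their
coordinates `n0 … n7` and their norm `(N0, N1)`, and the raw minimal vectors are then the triples made
of compatible groups.  All computations run on natural numbers, which the kernel evaluates quickly.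
-/

set_option autoImplicit false

namespace Cfsg.Agent.Helper7.J2

namespace Q8

theorem N1_lower (X : Q8) : -N0 X ≤ N1 X := by
  unfold N0 N1
  nlinarith [mul_self_nonneg (X.a0 + X.a1), mul_self_nonneg (X.b0 + X.b1),
    mul_self_nonneg (X.c0 + X.c1), mul_self_nonneg (X.d0 + X.d1), mul_self_nonneg X.a1,
    mul_self_nonneg X.b1, mul_self_nonneg X.c1, mul_self_nonneg X.d1]

/-- The code of a pair. -/
def pc (u v : ℤ) : ℕ := (u + 4).toNat + 16 * (v + 4).toNat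

/-- The pairs `(u, v)` with `u² + v² ≤ 16`: code, `u² + v²`, `2uv + v² + 16`. -/
def P49N : List (ℕ × ℕ × ℕ) := [(64, 16, 16), (33, 13, 32), (49, 10, 23), (65, 9, 16), (81, 10, 11), (97, 13, 8), (18, 13, 37), (34, 8, 28), (50, 5, 21), (66, 4, 16), (82, 5, 13), (98, 8, 12), (114, 13, 13), (19, 10, 31), (35, 5, 24), (51, 2, 19), (67, 1, 16), (83, 2, 15), (99, 5, 16), (115, 10, 19), (4, 16, 32), (20, 9, 25), (36, 4, 20), (52, 1, 17), (68, 0, 16), (84, 1, 17), (100, 4, 20), (116, 9, 25), (132, 16, 32), (21, 10, 19), (37, 5, 16), (53, 2, 15), (69, 1, 16), (85, 2, 19), (101, 5, 24), (117, 10, 31), (22, 13, 13), (38, 8, 12), (54, 5, 13), (70, 4, 16), (86, 5, 21), (102, 8, 28), (118, 13, 37), (39, 13, 8), (55, 10, 11), (71, 9, 16), (87, 10, 23), (103, 13, 32), (72, 16, 16)]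

theorem bnd4 {x : ℤ} (h : x * x ≤ 16) : -4 ≤ x ∧ x ≤ 4 := by
  constructor <;> nlinarith

theorem mem_P49N {u v : ℤ} (h : u * u + v * v ≤ 16) :
    (pc u v, (u * u + v * v).toNat, (2 * u * v + v * v + 16).toNat) ∈ P49N := by
  have hu : u * u ≤ 16 := by nlinarith [mul_self_nonneg v]
  have hv : v * v ≤ 16 := by nlinarith [mul_self_nonneg u]
  obtain ⟨hu1, hu2⟩ := bnd4 hu
  obtain ⟨hv1, hv2⟩ := bnd4 hv
  interval_cases u <;> interval_cases v <;> first | (exfalso; omega) | decide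

/-- The code of a raw quaternion with coordinates in `[-4, 4]`. -/
def enc (X : Q8) : ℕ :=
  pc X.a0 X.a1 + 256 * pc X.b0 X.b1 + 65536 * pc X.c0 X.c1 + 16777216 * pc X.d0 X.d1

/-- Decoding. -/
def dec (c : ℕ) : Q8 :=
  ⟨((c % 16 : ℕ) : ℤ) - 4, ((c / 16 % 16 : ℕ) : ℤ) - 4, ((c / 256 % 16 : ℕ) : ℤ) - 4,
   ((c / 4096 % 16 : ℕ) : ℤ) - 4, ((c / 65536 % 16 : ℕ) : ℤ) - 4, ((c / 1048576 % 16 : ℕ) : ℤ) - 4,
   ((c / 16777216 % 16 : ℕ) : ℤ) - 4, ((c / 268435456 % 16 : ℕ) : ℤ) - 4⟩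

/-- `codeOK` on digits. -/
def okD (a0 a1 b0 b1 c0 c1 d0 d1 : ℕ) : Bool :=
  Nat.beq ((b1 + c0 + d0 + d1) % 2) 0 && (Nat.beq ((b0 + c0 + c1 + d1) % 2) 0 &&
    (Nat.beq ((a1 + c0 + c1 + d0) % 2) 0 && Nat.beq ((a0 + c1 + d0 + d1) % 2) 0))

/-- `codeOK` on codes. -/
def okN (c : ℕ) : Bool :=
  okD (c % 16) (c / 16 % 16) (c / 256 % 16) (c / 4096 % 16) (c / 65536 % 16) (c / 1048576 % 16)
    (c / 16777216 % 16) (c / 268435456 % 16)

/-- The parities of `n0 … n7` on digits. -/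
def f0D (_a0 a1 b0 b1 _c0 c1 d0 _d1 : ℕ) : ℕ := (2 * a1 + 3 * b0 + 3 * b1 + 3 * c1 + d0) % 4 / 2
def f1D (a0 a1 _b0 _b1 c0 _c1 d0 d1 : ℕ) : ℕ := (3 * a0 + 3 * a1 + 3 * c0 + 2 * d0 + 3 * d1) % 4 / 2
def f2D (_a0 _a1 b0 b1 c0 _c1 d0 d1 : ℕ) : ℕ := (2 * b0 + b1 + 3 * c0 + 3 * d0 + 3 * d1) % 4 / 2
def f3D (_a0 a1 b0 b1 _c0 c1 _d0 d1 : ℕ) : ℕ := (3 * a1 + 2 * b0 + b1 + 3 * c1 + d1) % 4 / 2
def f4D (a0 a1 b0 b1 c0 c1 d0 d1 : ℕ) : ℕ :=
  (a0 + a1 + 3 * b0 + 3 * b1 + c0 + c1 + d0 + 3 * d1) % 4 / 2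
def f5D (a0 _a1 b0 b1 c0 _c1 d0 _d1 : ℕ) : ℕ := (a0 + b0 + 2 * b1 + c0 + d0) % 4 / 2
def f6D (_a0 a1 _b0 _b1 _c0 c1 _d0 _d1 : ℕ) : ℕ := (2 * a1 + 2 * c1) % 4 / 2
def f7D (_a0 a1 b0 b1 _c0 c1 _d0 d1 : ℕ) : ℕ := (3 * a1 + 2 * b0 + 3 * b1 + c1 + 3 * d1) % 4 / 2

/-- Apply a function of the digits to a code. -/
@[inline] def onD (f : ℕ → ℕ → ℕ → ℕ → ℕ → ℕ → ℕ → ℕ → ℕ) (c : ℕ) : ℕ :=
  f (c % 16) (c / 16 % 16) (c / 256 % 16) (c / 4096 % 16) (c / 65536 % 16) (c / 1048576 % 16)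
    (c / 16777216 % 16) (c / 268435456 % 16)

/-- The parity class of a pair code. -/
def parP (c : ℕ) : ℕ := c % 2 + 2 * (c / 16 % 2)

/-- The pairs of weight at most `r` in the parity class `p`, at position `4 r + p`. -/
def PTab : List (List (ℕ × ℕ × ℕ)) := [
    [(68, 0, 16)],
    [],
    [],
    [],
    [(68, 0, 16)],
    [(67, 1, 16), (69, 1, 16)],
    [(52, 1, 17), (84, 1, 17)],
    [],
    [(68, 0, 16)],
    [(67, 1, 16), (69, 1, 16)],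
    [(52, 1, 17), (84, 1, 17)],
    [(51, 2, 19), (83, 2, 15), (53, 2, 15), (85, 2, 19)],
    [(68, 0, 16)],
    [(67, 1, 16), (69, 1, 16)],
    [(52, 1, 17), (84, 1, 17)],
    [(51, 2, 19), (83, 2, 15), (53, 2, 15), (85, 2, 19)],
    [(66, 4, 16), (36, 4, 20), (68, 0, 16), (100, 4, 20), (70, 4, 16)],
    [(67, 1, 16), (69, 1, 16)],
    [(52, 1, 17), (84, 1, 17)],
    [(51, 2, 19), (83, 2, 15), (53, 2, 15), (85, 2, 19)],
    [(66, 4, 16), (36, 4, 20), (68, 0, 16), (100, 4, 20), (70, 4, 16)],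
    [(35, 5, 24), (67, 1, 16), (99, 5, 16), (37, 5, 16), (69, 1, 16), (101, 5, 24)],
    [(50, 5, 21), (82, 5, 13), (52, 1, 17), (84, 1, 17), (54, 5, 13), (86, 5, 21)],
    [(51, 2, 19), (83, 2, 15), (53, 2, 15), (85, 2, 19)],
    [(66, 4, 16), (36, 4, 20), (68, 0, 16), (100, 4, 20), (70, 4, 16)],
    [(35, 5, 24), (67, 1, 16), (99, 5, 16), (37, 5, 16), (69, 1, 16), (101, 5, 24)],
    [(50, 5, 21), (82, 5, 13), (52, 1, 17), (84, 1, 17), (54, 5, 13), (86, 5, 21)],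
    [(51, 2, 19), (83, 2, 15), (53, 2, 15), (85, 2, 19)],
    [(66, 4, 16), (36, 4, 20), (68, 0, 16), (100, 4, 20), (70, 4, 16)],
    [(35, 5, 24), (67, 1, 16), (99, 5, 16), (37, 5, 16), (69, 1, 16), (101, 5, 24)],
    [(50, 5, 21), (82, 5, 13), (52, 1, 17), (84, 1, 17), (54, 5, 13), (86, 5, 21)],
    [(51, 2, 19), (83, 2, 15), (53, 2, 15), (85, 2, 19)],
    [(34, 8, 28), (66, 4, 16), (98, 8, 12), (36, 4, 20), (68, 0, 16), (100, 4, 20), (38, 8, 12), (70, 4, 16), (102, 8, 28)],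
    [(35, 5, 24), (67, 1, 16), (99, 5, 16), (37, 5, 16), (69, 1, 16), (101, 5, 24)],
    [(50, 5, 21), (82, 5, 13), (52, 1, 17), (84, 1, 17), (54, 5, 13), (86, 5, 21)],
    [(51, 2, 19), (83, 2, 15), (53, 2, 15), (85, 2, 19)],
    [(34, 8, 28), (66, 4, 16), (98, 8, 12), (36, 4, 20), (68, 0, 16), (100, 4, 20), (38, 8, 12), (70, 4, 16), (102, 8, 28)],
    [(65, 9, 16), (35, 5, 24), (67, 1, 16), (99, 5, 16), (37, 5, 16), (69, 1, 16), (101, 5, 24), (71, 9, 16)],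
    [(50, 5, 21), (82, 5, 13), (20, 9, 25), (52, 1, 17), (84, 1, 17), (116, 9, 25), (54, 5, 13), (86, 5, 21)],
    [(51, 2, 19), (83, 2, 15), (53, 2, 15), (85, 2, 19)],
    [(34, 8, 28), (66, 4, 16), (98, 8, 12), (36, 4, 20), (68, 0, 16), (100, 4, 20), (38, 8, 12), (70, 4, 16), (102, 8, 28)],
    [(65, 9, 16), (35, 5, 24), (67, 1, 16), (99, 5, 16), (37, 5, 16), (69, 1, 16), (101, 5, 24), (71, 9, 16)],
    [(50, 5, 21), (82, 5, 13), (20, 9, 25), (52, 1, 17), (84, 1, 17), (116, 9, 25), (54, 5, 13), (86, 5, 21)],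
    [(49, 10, 23), (81, 10, 11), (19, 10, 31), (51, 2, 19), (83, 2, 15), (115, 10, 19), (21, 10, 19), (53, 2, 15), (85, 2, 19), (117, 10, 31), (55, 10, 11), (87, 10, 23)],
    [(34, 8, 28), (66, 4, 16), (98, 8, 12), (36, 4, 20), (68, 0, 16), (100, 4, 20), (38, 8, 12), (70, 4, 16), (102, 8, 28)],
    [(65, 9, 16), (35, 5, 24), (67, 1, 16), (99, 5, 16), (37, 5, 16), (69, 1, 16), (101, 5, 24), (71, 9, 16)],
    [(50, 5, 21), (82, 5, 13), (20, 9, 25), (52, 1, 17), (84, 1, 17), (116, 9, 25), (54, 5, 13), (86, 5, 21)],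
    [(49, 10, 23), (81, 10, 11), (19, 10, 31), (51, 2, 19), (83, 2, 15), (115, 10, 19), (21, 10, 19), (53, 2, 15), (85, 2, 19), (117, 10, 31), (55, 10, 11), (87, 10, 23)],
    [(34, 8, 28), (66, 4, 16), (98, 8, 12), (36, 4, 20), (68, 0, 16), (100, 4, 20), (38, 8, 12), (70, 4, 16), (102, 8, 28)],
    [(65, 9, 16), (35, 5, 24), (67, 1, 16), (99, 5, 16), (37, 5, 16), (69, 1, 16), (101, 5, 24), (71, 9, 16)],
    [(50, 5, 21), (82, 5, 13), (20, 9, 25), (52, 1, 17), (84, 1, 17), (116, 9, 25), (54, 5, 13), (86, 5, 21)],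
    [(49, 10, 23), (81, 10, 11), (19, 10, 31), (51, 2, 19), (83, 2, 15), (115, 10, 19), (21, 10, 19), (53, 2, 15), (85, 2, 19), (117, 10, 31), (55, 10, 11), (87, 10, 23)],
    [(34, 8, 28), (66, 4, 16), (98, 8, 12), (36, 4, 20), (68, 0, 16), (100, 4, 20), (38, 8, 12), (70, 4, 16), (102, 8, 28)],
    [(33, 13, 32), (65, 9, 16), (97, 13, 8), (35, 5, 24), (67, 1, 16), (99, 5, 16), (37, 5, 16), (69, 1, 16), (101, 5, 24), (39, 13, 8), (71, 9, 16), (103, 13, 32)],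
    [(18, 13, 37), (50, 5, 21), (82, 5, 13), (114, 13, 13), (20, 9, 25), (52, 1, 17), (84, 1, 17), (116, 9, 25), (22, 13, 13), (54, 5, 13), (86, 5, 21), (118, 13, 37)],
    [(49, 10, 23), (81, 10, 11), (19, 10, 31), (51, 2, 19), (83, 2, 15), (115, 10, 19), (21, 10, 19), (53, 2, 15), (85, 2, 19), (117, 10, 31), (55, 10, 11), (87, 10, 23)],
    [(34, 8, 28), (66, 4, 16), (98, 8, 12), (36, 4, 20), (68, 0, 16), (100, 4, 20), (38, 8, 12), (70, 4, 16), (102, 8, 28)],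
    [(33, 13, 32), (65, 9, 16), (97, 13, 8), (35, 5, 24), (67, 1, 16), (99, 5, 16), (37, 5, 16), (69, 1, 16), (101, 5, 24), (39, 13, 8), (71, 9, 16), (103, 13, 32)],
    [(18, 13, 37), (50, 5, 21), (82, 5, 13), (114, 13, 13), (20, 9, 25), (52, 1, 17), (84, 1, 17), (116, 9, 25), (22, 13, 13), (54, 5, 13), (86, 5, 21), (118, 13, 37)],
    [(49, 10, 23), (81, 10, 11), (19, 10, 31), (51, 2, 19), (83, 2, 15), (115, 10, 19), (21, 10, 19), (53, 2, 15), (85, 2, 19), (117, 10, 31), (55, 10, 11), (87, 10, 23)],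
    [(34, 8, 28), (66, 4, 16), (98, 8, 12), (36, 4, 20), (68, 0, 16), (100, 4, 20), (38, 8, 12), (70, 4, 16), (102, 8, 28)],
    [(33, 13, 32), (65, 9, 16), (97, 13, 8), (35, 5, 24), (67, 1, 16), (99, 5, 16), (37, 5, 16), (69, 1, 16), (101, 5, 24), (39, 13, 8), (71, 9, 16), (103, 13, 32)],
    [(18, 13, 37), (50, 5, 21), (82, 5, 13), (114, 13, 13), (20, 9, 25), (52, 1, 17), (84, 1, 17), (116, 9, 25), (22, 13, 13), (54, 5, 13), (86, 5, 21), (118, 13, 37)],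
    [(49, 10, 23), (81, 10, 11), (19, 10, 31), (51, 2, 19), (83, 2, 15), (115, 10, 19), (21, 10, 19), (53, 2, 15), (85, 2, 19), (117, 10, 31), (55, 10, 11), (87, 10, 23)],
    [(64, 16, 16), (34, 8, 28), (66, 4, 16), (98, 8, 12), (4, 16, 32), (36, 4, 20), (68, 0, 16), (100, 4, 20), (132, 16, 32), (38, 8, 12), (70, 4, 16), (102, 8, 28), (72, 16, 16)],
    [(33, 13, 32), (65, 9, 16), (97, 13, 8), (35, 5, 24), (67, 1, 16), (99, 5, 16), (37, 5, 16), (69, 1, 16), (101, 5, 24), (39, 13, 8), (71, 9, 16), (103, 13, 32)],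
    [(18, 13, 37), (50, 5, 21), (82, 5, 13), (114, 13, 13), (20, 9, 25), (52, 1, 17), (84, 1, 17), (116, 9, 25), (22, 13, 13), (54, 5, 13), (86, 5, 21), (118, 13, 37)],
    [(49, 10, 23), (81, 10, 11), (19, 10, 31), (51, 2, 19), (83, 2, 15), (115, 10, 19), (21, 10, 19), (53, 2, 15), (85, 2, 19), (117, 10, 31), (55, 10, 11), (87, 10, 23)]]

/-- The pairs of weight at most `r` in the parity class `p`. -/
def PLeP (r p : ℕ) : List (ℕ × ℕ × ℕ) := PTab.getD (4 * r + p) []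

theorem PLeP_eq : ∀ r < 17, ∀ p < 4,
    PLeP r p = P49N.filter fun e => Nat.ble e.2.1 r && Nat.beq (parP e.1) p := by
  decide +kernel

/-- The pairs of weight at most `r`. -/
def allP (r : ℕ) : List (ℕ × ℕ × ℕ) := PLeP r 0 ++ (PLeP r 1 ++ (PLeP r 2 ++ PLeP r 3))

/-- The parity class of the first pair of an icosian with last pairs `c`, `d`. -/
def paN (c d : ℕ) : ℕ := (c / 16 + d + d / 16) % 2 + 2 * ((c + c / 16 + d) % 2)
/-- The parity class of the second pair of an icosian with last pairs `c`, `d`. -/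
def pbN (c d : ℕ) : ℕ := (c + c / 16 + d / 16) % 2 + 2 * ((c + d + d / 16) % 2)

/-- The raw icosians with `N0 ≤ 16` and third pair `c`: code, `N0`, `N1 + 64`. -/
def WlNc (c : ℕ × ℕ × ℕ) : List (ℕ × ℕ × ℕ) :=
  (allP (16 - c.2.1)).flatMap fun d =>
    (PLeP (16 - c.2.1 - d.2.1) (paN c.1 d.1)).flatMap fun a =>
      (PLeP (16 - c.2.1 - d.2.1 - a.2.1) (pbN c.1 d.1)).map fun b =>
        (a.1 + 256 * b.1 + 65536 * c.1 + 16777216 * d.1, a.2.1 + b.2.1 + c.2.1 + d.2.1,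
          a.2.2 + b.2.2 + c.2.2 + d.2.2)

/-- The list of all raw icosians with `N0 ≤ 16`: code, `N0`, `N1 + 64`. -/
def WlN : List (ℕ × ℕ × ℕ) := (allP 16).flatMap WlNc

theorem nbeq_iff (a b : ℕ) : Nat.beq a b = true ↔ a = b :=
  ⟨Nat.eq_of_beq_eq_true, fun h => h ▸ Nat.beq_refl a⟩

theorem par_lemma (L : ℤ) (x : ℕ) (m : ℤ) (h : (x : ℤ) = L + 4 * m) :
    (L / 2) % 2 = ((x % 4 / 2 : ℕ) : ℤ) := by
  omega

theorem toNat_eq {x : ℤ} (h : 0 ≤ x) : ∃ k : ℕ, x.toNat = k ∧ (k : ℤ) = x :=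
  ⟨x.toNat, rfl, Int.toNat_of_nonneg h⟩

theorem digits_nat {k0 k1 k2 k3 k4 k5 k6 k7 : ℕ} (h0 : k0 < 16) (h1 : k1 < 16) (h2 : k2 < 16)
    (h3 : k3 < 16) (h4 : k4 < 16) (h5 : k5 < 16) (h6 : k6 < 16) (h7 : k7 < 16) (c : ℕ)
    (hc : c = k0 + 16 * k1 + 256 * (k2 + 16 * k3) + 65536 * (k4 + 16 * k5) +
      16777216 * (k6 + 16 * k7)) :
    c % 16 = k0 ∧ c / 16 % 16 = k1 ∧ c / 256 % 16 = k2 ∧ c / 4096 % 16 = k3 ∧
    c / 65536 % 16 = k4 ∧ c / 1048576 % 16 = k5 ∧ c / 16777216 % 16 = k6 ∧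
    c / 268435456 % 16 = k7 := by
  refine ⟨?_, ?_, ?_, ?_, ?_, ?_, ?_, ?_⟩ <;> omega

/-- The digits of the code of `X` are natural numbers `k` with `k = coordinate + 4`. -/
theorem digits_enc {X : Q8} (hN : N0 X ≤ 16) :
    ∃ k0 k1 k2 k3 k4 k5 k6 k7 : ℕ,
    enc X % 16 = k0 ∧ enc X / 16 % 16 = k1 ∧ enc X / 256 % 16 = k2 ∧ enc X / 4096 % 16 = k3 ∧
    enc X / 65536 % 16 = k4 ∧ enc X / 1048576 % 16 = k5 ∧ enc X / 16777216 % 16 = k6 ∧
    enc X / 268435456 % 16 = k7 ∧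
    (k0 : ℤ) = X.a0 + 4 ∧ (k1 : ℤ) = X.a1 + 4 ∧ (k2 : ℤ) = X.b0 + 4 ∧ (k3 : ℤ) = X.b1 + 4 ∧
    (k4 : ℤ) = X.c0 + 4 ∧ (k5 : ℤ) = X.c1 + 4 ∧ (k6 : ℤ) = X.d0 + 4 ∧ (k7 : ℤ) = X.d1 + 4 ∧
    k0 ≤ 8 ∧ k1 ≤ 8 ∧ k2 ≤ 8 ∧ k3 ≤ 8 ∧ k4 ≤ 8 ∧ k5 ≤ 8 ∧ k6 ≤ 8 ∧ k7 ≤ 8 := by
  obtain ⟨a0, a1, b0, b1, c0, c1, d0, d1⟩ := X
  simp only [N0] at hN
  have ha := mul_self_nonneg a0
  have ha' := mul_self_nonneg a1
  have hb := mul_self_nonneg b0
  have hb' := mul_self_nonneg b1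
  have hc := mul_self_nonneg c0
  have hc' := mul_self_nonneg c1
  have hd := mul_self_nonneg d0
  have hd' := mul_self_nonneg d1
  obtain ⟨p1, p2⟩ := bnd4 (x := a0) (by linarith)
  obtain ⟨p3, p4⟩ := bnd4 (x := a1) (by linarith)
  obtain ⟨p5, p6⟩ := bnd4 (x := b0) (by linarith)
  obtain ⟨p7, p8⟩ := bnd4 (x := b1) (by linarith)
  obtain ⟨q1, q2⟩ := bnd4 (x := c0) (by linarith)
  obtain ⟨q3, q4⟩ := bnd4 (x := c1) (by linarith)
  obtain ⟨q5, q6⟩ := bnd4 (x := d0) (by linarith)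
  obtain ⟨q7, q8⟩ := bnd4 (x := d1) (by linarith)
  obtain ⟨k0, e0, f0⟩ := toNat_eq (x := a0 + 4) (by omega)
  obtain ⟨k1, e1, f1⟩ := toNat_eq (x := a1 + 4) (by omega)
  obtain ⟨k2, e2, f2⟩ := toNat_eq (x := b0 + 4) (by omega)
  obtain ⟨k3, e3, f3⟩ := toNat_eq (x := b1 + 4) (by omega)
  obtain ⟨k4, e4, f4⟩ := toNat_eq (x := c0 + 4) (by omega)
  obtain ⟨k5, e5, f5⟩ := toNat_eq (x := c1 + 4) (by omega)
  obtain ⟨k6, e6, f6⟩ := toNat_eq (x := d0 + 4) (by omega)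
  obtain ⟨k7, e7, f7⟩ := toNat_eq (x := d1 + 4) (by omega)
  have g0 : k0 ≤ 8 := by omega
  have g1 : k1 ≤ 8 := by omega
  have g2 : k2 ≤ 8 := by omega
  have g3 : k3 ≤ 8 := by omega
  have g4 : k4 ≤ 8 := by omega
  have g5 : k5 ≤ 8 := by omega
  have g6 : k6 ≤ 8 := by omega
  have g7 : k7 ≤ 8 := by omega
  obtain ⟨d0', d1', d2', d3', d4', d5', d6', d7'⟩ :=
    digits_nat (k0 := k0) (k1 := k1) (k2 := k2) (k3 := k3) (k4 := k4) (k5 := k5) (k6 := k6)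
      (k7 := k7) (by omega) (by omega) (by omega) (by omega) (by omega) (by omega) (by omega)
      (by omega) (enc ⟨a0, a1, b0, b1, c0, c1, d0, d1⟩) (by simp only [enc, pc, e0, e1, e2, e3, e4, e5, e6, e7])
  exact ⟨k0, k1, k2, k3, k4, k5, k6, k7, d0', d1', d2', d3', d4', d5', d6', d7', f0, f1, f2, f3, f4,
    f5, f6, f7, g0, g1, g2, g3, g4, g5, g6, g7⟩

theorem dec_enc {X : Q8} (hN : N0 X ≤ 16) : dec (enc X) = X := by
  obtain ⟨k0, k1, k2, k3, k4, k5, k6, k7, e0, e1, e2, e3, e4, e5, e6, e7, f0, f1, f2, f3, f4, f5, f6,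
    f7, -⟩ := digits_enc hN
  obtain ⟨a0, a1, b0, b1, c0, c1, d0, d1⟩ := X
  simp only at f0 f1 f2 f3 f4 f5 f6 f7
  simp only [dec, e0, e1, e2, e3, e4, e5, e6, e7, mk.injEq]
  refine ⟨?_, ?_, ?_, ?_, ?_, ?_, ?_, ?_⟩ <;> omega

theorem okN_enc {X : Q8} (h : codeOK X) (hN : N0 X ≤ 16) : okN (enc X) = true := by
  obtain ⟨k0, k1, k2, k3, k4, k5, k6, k7, e0, e1, e2, e3, e4, e5, e6, e7, f0, f1, f2, f3, f4, f5, f6,
    f7, -⟩ := digits_enc hN
  obtain ⟨a0, a1, b0, b1, c0, c1, d0, d1⟩ := X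
  obtain ⟨h1, h2, h3, h4⟩ := h
  simp only at f0 f1 f2 f3 f4 f5 f6 f7 h1 h2 h3 h4
  simp only [okN, okD, e0, e1, e2, e3, e4, e5, e6, e7, Bool.and_eq_true, nbeq_iff]
  refine ⟨?_, ?_, ?_, ?_⟩ <;> omega

/-- The parities of the coordinates, computed from the code. -/
theorem parity_enc {X : Q8} (hN : N0 X ≤ 16) :
    n0 X % 2 = (onD f0D (enc X) : ℕ) ∧ n1 X % 2 = (onD f1D (enc X) : ℕ) ∧
    n2 X % 2 = (onD f2D (enc X) : ℕ) ∧ n3 X % 2 = (onD f3D (enc X) : ℕ) ∧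
    n4 X % 2 = (onD f4D (enc X) : ℕ) ∧ n5 X % 2 = (onD f5D (enc X) : ℕ) ∧
    n6 X % 2 = (onD f6D (enc X) : ℕ) ∧ n7 X % 2 = (onD f7D (enc X) : ℕ) := by
  obtain ⟨k0, k1, k2, k3, k4, k5, k6, k7, e0, e1, e2, e3, e4, e5, e6, e7, f0, f1, f2, f3, f4, f5, f6,
    f7, -⟩ := digits_enc hN
  obtain ⟨a0, a1, b0, b1, c0, c1, d0, d1⟩ := X
  simp only at f0 f1 f2 f3 f4 f5 f6 f7
  simp only [onD, f0D, f1D, f2D, f3D, f4D, f5D, f6D, f7D, e0, e1, e2, e3, e4, e5, e6, e7, n0, n1, n2,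
    n3, n4, n5, n6, n7]
  refine ⟨par_lemma _ _ (a1 + b0 + b1 + c1 + 12) ?_, par_lemma _ _ (a0 + a1 + c0 + d0 + d1 + 14) ?_,
    par_lemma _ _ (c0 + d0 + d1 + 12) ?_, par_lemma _ _ (a1 + c1 + 10) ?_,
    par_lemma _ _ (b0 + b1 + d1 + 14) ?_, par_lemma _ _ (b0 + b1 + 6) ?_, par_lemma _ _ 4 ?_,
    par_lemma _ _ (a1 + b0 + b1 + d1 + 12) ?_⟩ <;> push_cast <;> linarith

theorem mem_PLeP {e : ℕ × ℕ × ℕ} (he : e ∈ P49N) {r p : ℕ} (hr : r < 17) (hw : e.2.1 ≤ r)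
    (hp : parP e.1 = p) (hp4 : p < 4) : e ∈ PLeP r p := by
  rw [PLeP_eq r hr p hp4, List.mem_filter]
  refine ⟨he, ?_⟩
  simp only [Bool.and_eq_true, Nat.ble_eq, nbeq_iff]
  exact ⟨hw, hp⟩

theorem mem_allP {e : ℕ × ℕ × ℕ} (he : e ∈ P49N) {r : ℕ} (hr : r < 17) (hw : e.2.1 ≤ r) :
    e ∈ allP r := by
  have h4 : parP e.1 < 4 := by unfold parP; omega
  have := mem_PLeP he hr hw rfl h4
  simp only [allP, List.mem_append]
  have h : parP e.1 = 0 ∨ parP e.1 = 1 ∨ parP e.1 = 2 ∨ parP e.1 = 3 := by omega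
  rcases h with h | h | h | h <;> rw [h] at this <;> simp [this]

/-- The parity class of the code of a pair. -/
theorem parP_pc {u v : ℤ} (hu : -4 ≤ u ∧ u ≤ 4) (hv : -4 ≤ v ∧ v ≤ 4) :
    parP (pc u v) = (u % 2).toNat + 2 * (v % 2).toNat ∧ pc u v % 2 = (u % 2).toNat ∧
      pc u v / 16 % 2 = (v % 2).toNat := by
  obtain ⟨k, e, f⟩ := toNat_eq (x := u + 4) (by omega)
  obtain ⟨l, e', f'⟩ := toNat_eq (x := v + 4) (by omega)
  simp only [parP, pc, e, e']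
  refine ⟨?_, ?_, ?_⟩ <;> omega

theorem par_link_a {a0 a1 c0 c1 d0 d1 : ℤ} {qc qd : ℕ} (pC0 : qc % 2 = (c0 % 2).toNat)
    (pC1 : qc / 16 % 2 = (c1 % 2).toNat) (pD0 : qd % 2 = (d0 % 2).toNat)
    (pD1 : qd / 16 % 2 = (d1 % 2).toNat) (h3 : (a1 + c0 + c1 + d0) % 2 = 0)
    (h4 : (a0 + c1 + d0 + d1) % 2 = 0) :
    (a0 % 2).toNat + 2 * (a1 % 2).toNat = paN qc qd := by
  unfold paN
  omega

theorem par_link_b {b0 b1 c0 c1 d0 d1 : ℤ} {qc qd : ℕ} (pC0 : qc % 2 = (c0 % 2).toNat)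
    (pC1 : qc / 16 % 2 = (c1 % 2).toNat) (pD0 : qd % 2 = (d0 % 2).toNat)
    (pD1 : qd / 16 % 2 = (d1 % 2).toNat) (h1 : (b1 + c0 + d0 + d1) % 2 = 0)
    (h2 : (b0 + c0 + c1 + d1) % 2 = 0) :
    (b0 % 2).toNat + 2 * (b1 % 2).toNat = pbN qc qd := by
  unfold pbN
  omega

theorem tpart_nonneg {u v : ℤ} (h : u * u ≤ 16) : 0 ≤ 2 * u * v + v * v + 16 := by
  nlinarith [mul_self_nonneg (u + v)]

theorem mem_WlN {X : Q8} (h : codeOK X) (hN : N0 X ≤ 16) :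
    (enc X, (N0 X).toNat, (N1 X + 64).toNat) ∈ WlN := by
  obtain ⟨a0, a1, b0, b1, c0, c1, d0, d1⟩ := X
  obtain ⟨h1, h2, h3, h4⟩ := h
  simp only at h1 h2 h3 h4
  simp only [N0] at hN
  have ha := mul_self_nonneg a0
  have ha' := mul_self_nonneg a1
  have hb := mul_self_nonneg b0
  have hb' := mul_self_nonneg b1
  have hc := mul_self_nonneg c0
  have hc' := mul_self_nonneg c1
  have hd := mul_self_nonneg d0
  have hd' := mul_self_nonneg d1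
  have m1 := mem_P49N (u := a0) (v := a1) (by linarith)
  have m2 := mem_P49N (u := b0) (v := b1) (by linarith)
  have m3 := mem_P49N (u := c0) (v := c1) (by linarith)
  have m4 := mem_P49N (u := d0) (v := d1) (by linarith)
  obtain ⟨ra0, ra0'⟩ := bnd4 (x := a0) (by linarith)
  obtain ⟨ra1, ra1'⟩ := bnd4 (x := a1) (by linarith)
  obtain ⟨rb0, rb0'⟩ := bnd4 (x := b0) (by linarith)
  obtain ⟨rb1, rb1'⟩ := bnd4 (x := b1) (by linarith)
  obtain ⟨rc0, rc0'⟩ := bnd4 (x := c0) (by linarith)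
  obtain ⟨rc1, rc1'⟩ := bnd4 (x := c1) (by linarith)
  obtain ⟨rd0, rd0'⟩ := bnd4 (x := d0) (by linarith)
  obtain ⟨rd1, rd1'⟩ := bnd4 (x := d1) (by linarith)
  obtain ⟨pA, -, -⟩ := parP_pc ⟨ra0, ra0'⟩ ⟨ra1, ra1'⟩
  obtain ⟨pB, -, -⟩ := parP_pc ⟨rb0, rb0'⟩ ⟨rb1, rb1'⟩
  obtain ⟨-, pC0, pC1⟩ := parP_pc ⟨rc0, rc0'⟩ ⟨rc1, rc1'⟩
  obtain ⟨-, pD0, pD1⟩ := parP_pc ⟨rd0, rd0'⟩ ⟨rd1, rd1'⟩
  -- the weights and `τ` parts as natural numbers
  obtain ⟨wa, ewa, fwa⟩ := toNat_eq (x := a0 * a0 + a1 * a1) (by linarith)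
  obtain ⟨wb, ewb, fwb⟩ := toNat_eq (x := b0 * b0 + b1 * b1) (by linarith)
  obtain ⟨wc, ewc, fwc⟩ := toNat_eq (x := c0 * c0 + c1 * c1) (by linarith)
  obtain ⟨wd, ewd, fwd⟩ := toNat_eq (x := d0 * d0 + d1 * d1) (by linarith)
  obtain ⟨ta, eta, fta⟩ := toNat_eq (x := 2 * a0 * a1 + a1 * a1 + 16) (tpart_nonneg (by linarith))
  obtain ⟨tb, etb, ftb⟩ := toNat_eq (x := 2 * b0 * b1 + b1 * b1 + 16) (tpart_nonneg (by linarith))
  obtain ⟨tc, etc, ftc⟩ := toNat_eq (x := 2 * c0 * c1 + c1 * c1 + 16) (tpart_nonneg (by linarith))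
  obtain ⟨td, etd, ftd⟩ := toNat_eq (x := 2 * d0 * d1 + d1 * d1 + 16) (tpart_nonneg (by linarith))
  rw [ewa, eta] at m1
  rw [ewb, etb] at m2
  rw [ewc, etc] at m3
  rw [ewd, etd] at m4
  generalize hpa : pc a0 a1 = qa at m1 pA
  generalize hpb : pc b0 b1 = qb at m2 pB
  generalize hpc : pc c0 c1 = qc at m3 pC0 pC1
  generalize hpd : pc d0 d1 = qd at m4 pD0 pD1
  have hsum : wa + wb + wc + wd ≤ 16 := by omega
  have hc_mem : (qc, wc, tc) ∈ allP 16 := mem_allP m3 (by norm_num) (by simp only; omega)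
  have hd_mem : (qd, wd, td) ∈ allP (16 - wc) := mem_allP m4 (by omega) (by simp only; omega)
  have hpa' : parP qa = paN qc qd := by
    rw [pA]; exact par_link_a pC0 pC1 pD0 pD1 h3 h4
  have hpb' : parP qb = pbN qc qd := by
    rw [pB]; exact par_link_b pC0 pC1 pD0 pD1 h1 h2
  have hpa4 : paN qc qd < 4 := by unfold paN; omega
  have hpb4 : pbN qc qd < 4 := by unfold pbN; omega
  have ha_mem : (qa, wa, ta) ∈ PLeP (16 - wc - wd) (paN qc qd) :=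
    mem_PLeP m1 (by omega) (by simp only; omega) hpa' hpa4
  have hb_mem : (qb, wb, tb) ∈ PLeP (16 - wc - wd - wa) (pbN qc qd) :=
    mem_PLeP m2 (by omega) (by simp only; omega) hpb' hpb4
  have hfin : (qa + 256 * qb + 65536 * qc + 16777216 * qd, wa + wb + wc + wd, ta + tb + tc + td) =
      (enc ⟨a0, a1, b0, b1, c0, c1, d0, d1⟩, (N0 ⟨a0, a1, b0, b1, c0, c1, d0, d1⟩).toNat,
        (N1 ⟨a0, a1, b0, b1, c0, c1, d0, d1⟩ + 64).toNat) := by
    simp only [enc, N0, N1, Prod.mk.injEq, hpa, hpb, hpc, hpd]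
    refine ⟨trivial, ?_, ?_⟩ <;> omega
  simp only [WlN, WlNc, List.mem_flatMap, List.mem_map]
  exact ⟨_, hc_mem, _, hd_mem, _, ha_mem, _, hb_mem, hfin⟩

end Q8

/-- A group of the table: the parities of `n0 … n3`, the norm `(N0, N1 + 64)`, and the codes of its
members. -/
structure Entry where
  k0 : ℕ
  k1 : ℕ
  k2 : ℕ
  k3 : ℕ
  w : ℕ
  t : ℕ
  codes : List ℕ

/-- Does the entry have this key? -/
def Entry.hit (e : Entry) (k0 k1 k2 k3 w t : ℕ) : Bool :=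
  Nat.beq e.k0 k0 && (Nat.beq e.k1 k1 && (Nat.beq e.k2 k2 && (Nat.beq e.k3 k3 &&
    (Nat.beq e.w w && Nat.beq e.t t))))

theorem Entry.hit_iff (e : Entry) (k0 k1 k2 k3 w t : ℕ) :
    e.hit k0 k1 k2 k3 w t = true ↔
      e.k0 = k0 ∧ e.k1 = k1 ∧ e.k2 = k2 ∧ e.k3 = k3 ∧ e.w = w ∧ e.t = t := by
  simp only [Entry.hit, Bool.and_eq_true, Q8.nbeq_iff]

/-- The first entry with the given key. -/
def findEntry (cls : List Entry) (k0 k1 k2 k3 w t : ℕ) : Option Entry :=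
  cls.find? fun e => e.hit k0 k1 k2 k3 w t

/-- A class of the table: the parities of `n4 … n7` and the groups. -/
structure Cls where
  h0 : ℕ
  h1 : ℕ
  h2 : ℕ
  h3 : ℕ
  entries : List Entry

/-- The first class with the given key. -/
def findCls (tbl : List Cls) (h0 h1 h2 h3 : ℕ) : Option Cls :=
  tbl.find? fun c => Nat.beq c.h0 h0 && (Nat.beq c.h1 h1 && (Nat.beq c.h2 h2 && Nat.beq c.h3 h3))

/-- Membership of a code in a list of codes. -/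
def elemNat (c : ℕ) : List ℕ → Bool
  | [] => false
  | d :: l => Nat.beq c d || elemNat c l

theorem elemNat_iff (c : ℕ) (l : List ℕ) : elemNat c l = true ↔ c ∈ l := by
  induction l with
  | nil => simp [elemNat]
  | cons d l ih => simp [elemNat, ih, Q8.nbeq_iff]

/-- Is the raw icosian (code, `N0`, `N1 + 64`) in its group of the table? -/
def inTable (tbl : List Cls) (x : ℕ × ℕ × ℕ) : Bool :=
  match findCls tbl (Q8.onD Q8.f4D x.1) (Q8.onD Q8.f5D x.1) (Q8.onD Q8.f6D x.1)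
      (Q8.onD Q8.f7D x.1) with
  | none => false
  | some c =>
    match findEntry c.entries (Q8.onD Q8.f0D x.1) (Q8.onD Q8.f1D x.1) (Q8.onD Q8.f2D x.1)
        (Q8.onD Q8.f3D x.1) x.2.1 x.2.2 with
    | none => false
    | some e => elemNat x.1 e.codes

/-- All triples of codes from three lists. -/
def prod3 (l1 l2 l3 : List ℕ) : List (ℕ × ℕ × ℕ) :=
  l1.flatMap fun c1 => l2.flatMap fun c2 => l3.map fun c3 => (c1, c2, c3)

theorem mem_prod3 {l1 l2 l3 : List ℕ} {c1 c2 c3 : ℕ} (h1 : c1 ∈ l1) (h2 : c2 ∈ l2) (h3 : c3 ∈ l3) :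
    (c1, c2, c3) ∈ prod3 l1 l2 l3 := by
  simp only [prod3, List.mem_flatMap, List.mem_map]
  exact ⟨c1, h1, c2, h2, c3, h3, rfl⟩

theorem length_prod3 (l1 l2 l3 : List ℕ) :
    (prod3 l1 l2 l3).length = l1.length * (l2.length * l3.length) := by
  simp [prod3, List.length_flatMap]

/-- The third entry belonging to two entries. -/
def third (cls : List Entry) (e1 e2 : Entry) : Option Entry :=
  if Nat.ble (e1.w + e2.w) 16 then
    findEntry cls ((e1.k0 + e2.k0) % 2) ((e1.k1 + e2.k1) % 2) ((e1.k2 + e2.k2) % 2)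
      ((e1.k3 + e2.k3) % 2) (16 - e1.w - e2.w) (192 - e1.t - e2.t)
  else none

/-- The raw minimal vectors with coordinates in the given class. -/
def triplesOf (cls : List Entry) : List (ℕ × ℕ × ℕ) :=
  cls.flatMap fun (e1 : Entry) => cls.flatMap fun (e2 : Entry) =>
    match third cls e1 e2 with
    | none => []
    | some e3 => prod3 e1.codes e2.codes e3.codes

/-- The number of raw minimal vectors with coordinates in the given class. -/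
def countOf (cls : List Entry) : ℕ :=
  (cls.map fun (e1 : Entry) => (cls.map fun (e2 : Entry) =>
    match third cls e1 e2 with
    | none => 0
    | some e3 => e1.codes.length * (e2.codes.length * e3.codes.length)).sum).sum

theorem length_triplesOf (cls : List Entry) : (triplesOf cls).length = countOf cls := by
  simp only [triplesOf, countOf, List.length_flatMap]
  congr 1
  apply List.map_congr_left
  intro e1 _
  congr 1
  apply List.map_congr_left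
  intro e2 _
  cases third cls e1 e2 with
  | none => rfl
  | some e3 => exact length_prod3 _ _ _

/-- All raw minimal vectors according to the table. -/
def triples (tbl : List Cls) : List (ℕ × ℕ × ℕ) := tbl.flatMap fun c => triplesOf c.entries

theorem length_triples (tbl : List Cls) :
    (triples tbl).length = (tbl.map fun c => countOf c.entries).sum := by
  simp only [triples, List.length_flatMap, length_triplesOf]

/-- The decoded triple. -/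
def dec3 (c : ℕ × ℕ × ℕ) : Q8 × Q8 × Q8 := (Q8.dec c.1, Q8.dec c.2.1, Q8.dec c.2.2)

theorem inTable_elim {tbl : List Cls} {x : ℕ × ℕ × ℕ} (h : inTable tbl x = true) :
    ∃ c ∈ tbl, findCls tbl (Q8.onD Q8.f4D x.1) (Q8.onD Q8.f5D x.1) (Q8.onD Q8.f6D x.1)
        (Q8.onD Q8.f7D x.1) = some c ∧
      ∃ e ∈ c.entries, findEntry c.entries (Q8.onD Q8.f0D x.1) (Q8.onD Q8.f1D x.1)
          (Q8.onD Q8.f2D x.1) (Q8.onD Q8.f3D x.1) x.2.1 x.2.2 = some e ∧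
        e.k0 = Q8.onD Q8.f0D x.1 ∧ e.k1 = Q8.onD Q8.f1D x.1 ∧ e.k2 = Q8.onD Q8.f2D x.1 ∧
        e.k3 = Q8.onD Q8.f3D x.1 ∧ e.w = x.2.1 ∧ e.t = x.2.2 ∧ x.1 ∈ e.codes := by
  unfold inTable at h
  split at h
  · exact absurd h (by simp)
  · rename_i c hc
    split at h
    · exact absurd h (by simp)
    · rename_i e he
      refine ⟨c, List.mem_of_find?_eq_some hc, hc, e, List.mem_of_find?_eq_some he, he, ?_⟩
      have h1 := List.find?_some he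
      rw [Entry.hit_iff] at h1
      obtain ⟨a1, a2, a3, a4, a5, a6⟩ := h1
      exact ⟨a1, a2, a3, a4, a5, a6, (elemNat_iff _ _).1 h⟩

/-- If the table sorts all of `WlN`, then every raw minimal vector is in `triples`. -/
theorem mem_triples_of_rawMin {tbl : List Cls} (htbl : ∀ x ∈ Q8.WlN, inTable tbl x = true)
    {T : Q8 × Q8 × Q8} (hT : RawMin T) : ∃ c ∈ triples tbl, dec3 c = T := by
  obtain ⟨X, Y, Z⟩ := T
  obtain ⟨hX, hY, hZ, ⟨a4, a5, a6, a7⟩, ⟨b4, b5, b6, b7⟩, ⟨s0, s1, s2, s3⟩, hw, ht⟩ := hT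
  simp only at hX hY hZ a4 a5 a6 a7 b4 b5 b6 b7 s0 s1 s2 s3 hw ht
  have nX := Q8.N0_nonneg X
  have nY := Q8.N0_nonneg Y
  have nZ := Q8.N0_nonneg Z
  have wX : Q8.N0 X ≤ 16 := by linarith
  have wY : Q8.N0 Y ≤ 16 := by linarith
  have wZ : Q8.N0 Z ≤ 16 := by linarith
  obtain ⟨px0, px1, px2, px3, px4, px5, px6, px7⟩ := Q8.parity_enc wX
  obtain ⟨py0, py1, py2, py3, py4, py5, py6, py7⟩ := Q8.parity_enc wY
  obtain ⟨pz0, pz1, pz2, pz3, pz4, pz5, pz6, pz7⟩ := Q8.parity_enc wZ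
  obtain ⟨c, hc, fc, e1, he1, _, x0, x1, x2, x3, xw, xt, xc⟩ :=
    inTable_elim (htbl _ (Q8.mem_WlN hX wX))
  obtain ⟨c', _, fc', e2, he2, _, y0, y1, y2, y3, yw, yt, yc⟩ :=
    inTable_elim (htbl _ (Q8.mem_WlN hY wY))
  obtain ⟨c'', _, fc'', e3, he3, fe3, z0, z1, z2, z3, zw, zt, zc⟩ :=
    inTable_elim (htbl _ (Q8.mem_WlN hZ wZ))
  simp only at fc fc' fc'' x0 x1 x2 x3 xw xt xc y0 y1 y2 y3 yw yt yc z0 z1 z2 z3 zw zt zc fe3
  have g4 : Q8.onD Q8.f4D (Q8.enc Y) = Q8.onD Q8.f4D (Q8.enc X) := by omega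
  have g5 : Q8.onD Q8.f5D (Q8.enc Y) = Q8.onD Q8.f5D (Q8.enc X) := by omega
  have g6 : Q8.onD Q8.f6D (Q8.enc Y) = Q8.onD Q8.f6D (Q8.enc X) := by omega
  have g7 : Q8.onD Q8.f7D (Q8.enc Y) = Q8.onD Q8.f7D (Q8.enc X) := by omega
  have g4' : Q8.onD Q8.f4D (Q8.enc Z) = Q8.onD Q8.f4D (Q8.enc X) := by omega
  have g5' : Q8.onD Q8.f5D (Q8.enc Z) = Q8.onD Q8.f5D (Q8.enc X) := by omega
  have g6' : Q8.onD Q8.f6D (Q8.enc Z) = Q8.onD Q8.f6D (Q8.enc X) := by omega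
  have g7' : Q8.onD Q8.f7D (Q8.enc Z) = Q8.onD Q8.f7D (Q8.enc X) := by omega
  rw [g4, g5, g6, g7, fc] at fc'
  rw [g4', g5', g6', g7', fc] at fc''
  obtain rfl : c = c' := by simpa using fc'
  obtain rfl : c = c'' := by simpa using fc''
  refine ⟨(Q8.enc X, Q8.enc Y, Q8.enc Z), ?_, ?_⟩
  · simp only [triples, List.mem_flatMap]
    refine ⟨c, hc, ?_⟩
    simp only [triplesOf, List.mem_flatMap]
    refine ⟨e1, he1, e2, he2, ?_⟩
    have hthird : third c.entries e1 e2 = some e3 := by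
      unfold third
      have hle : Nat.ble (e1.w + e2.w) 16 = true := by
        rw [Nat.ble_eq, xw, yw]; omega
      rw [if_pos hle, ← fe3]
      have t1 : 0 ≤ Q8.N1 X + 64 := by
        have := Q8.N1_lower X; linarith
      have t2 : 0 ≤ Q8.N1 Y + 64 := by
        have := Q8.N1_lower Y; linarith
      have t3 : 0 ≤ Q8.N1 Z + 64 := by
        have := Q8.N1_lower Z; linarith
      congr 1 <;> omega
    rw [hthird]
    exact mem_prod3 xc yc zc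
  · simp only [dec3, Q8.dec_enc wX, Q8.dec_enc wY, Q8.dec_enc wZ]

end Cfsg.Agent.Helper7.J2
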