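import Cfsg.Agent.Helper7.J2.Icosian

/-!
# The icosian model of `J2`: the ideals `I h`, `I h̄` and the norm in integer coordinates

With respect to the adapted basis `B1 … B8` of `Icosian.lean` (coordinates `n0 … n7`), the left ideal
`I h` consists of the icosians with `n4 … n7` even and `I h̄` of those with `n0 … n3` even.  Only the
direction "member of the ideal ⇒ parities" is proved here.
-/

set_option autoImplicit false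

open Quaternion

namespace Cfsg.Agent.Helper7.J2

open Cfsg.Spor

namespace Q8

/-- The raw `h = ½(-√5 + i + j + k)`. -/
def H : Q8 := ⟨1, -2, 1, 0, 1, 0, 1, 0⟩
/-- The raw conjugate of `h`. -/
def HB : Q8 := ⟨1, -2, -1, 0, -1, 0, -1, 0⟩

theorem toH_H : toH H = icoH := by
  ext <;> simp [H, icoH, sqrt5_eq] <;> ring

theorem toH_HB : toH HB = star icoH := by
  rw [← toH_H, ← toH_conj]; rfl

set_option maxHeartbeats 1000000 in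
theorem key_of_mul_H {A X : Q8} (hA : codeOK A) (h : mulRaw A H = smul 2 X) :
    n4 X % 2 = 0 ∧ n5 X % 2 = 0 ∧ n6 X % 2 = 0 ∧ n7 X % 2 = 0 := by
  obtain ⟨a0, a1, b0, b1, c0, c1, d0, d1⟩ := A
  obtain ⟨x0, x1, y0, y1, z0, z1, w0, w1⟩ := X
  obtain ⟨h1, h2, h3, h4⟩ := hA
  simp only at h1 h2 h3 h4
  simp only [mulRaw, H, smul, m0, m1, mk.injEq] at h
  obtain ⟨e0, e1, e2, e3, e4, e5, e6, e7⟩ := h
  simp only [n4, n5, n6, n7]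
  refine ⟨?_, ?_, ?_, ?_⟩ <;> omega

set_option maxHeartbeats 1000000 in
theorem key_of_mul_HB {A X : Q8} (hA : codeOK A) (h : mulRaw A HB = smul 2 X) :
    n0 X % 2 = 0 ∧ n1 X % 2 = 0 ∧ n2 X % 2 = 0 ∧ n3 X % 2 = 0 := by
  obtain ⟨a0, a1, b0, b1, c0, c1, d0, d1⟩ := A
  obtain ⟨x0, x1, y0, y1, z0, z1, w0, w1⟩ := X
  obtain ⟨h1, h2, h3, h4⟩ := hA
  simp only at h1 h2 h3 h4
  simp only [mulRaw, HB, smul, m0, m1, mk.injEq] at h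
  obtain ⟨e0, e1, e2, e3, e4, e5, e6, e7⟩ := h
  simp only [n0, n1, n2, n3]
  refine ⟨?_, ?_, ?_, ?_⟩ <;> omega

/-- If `toH X = a * toH Y` with `a` an icosian then `mulRaw A Y = smul 2 X` for a raw icosian `A`. -/
theorem exists_mulRaw_of_mem_leftIdeal {X Y : Q8} (h : toH X ∈ leftIdeal (toH Y)) :
    ∃ A, codeOK A ∧ mulRaw A Y = smul 2 X := by
  obtain ⟨a, ha, hx⟩ := h
  obtain ⟨A, hA, rfl⟩ := mem_icosians_iff.1 ha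
  refine ⟨A, hA, ?_⟩
  apply toH_injective
  rw [toH_mulRaw, toH_smul, hx]
  norm_num

theorem keyH_of_mem {X : Q8} (h : toH X ∈ leftIdeal icoH) :
    n4 X % 2 = 0 ∧ n5 X % 2 = 0 ∧ n6 X % 2 = 0 ∧ n7 X % 2 = 0 := by
  rw [← toH_H] at h
  obtain ⟨A, hA, hm⟩ := exists_mulRaw_of_mem_leftIdeal h
  exact key_of_mul_H hA hm

theorem keyB_of_mem {X : Q8} (h : toH X ∈ leftIdeal (star icoH)) :
    n0 X % 2 = 0 ∧ n1 X % 2 = 0 ∧ n2 X % 2 = 0 ∧ n3 X % 2 = 0 := by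
  rw [← toH_HB] at h
  obtain ⟨A, hA, hm⟩ := exists_mulRaw_of_mem_leftIdeal h
  exact key_of_mul_HB hA hm

/-- Additivity of the coordinates on raw icosians. -/
theorem n_sub {X Y : Q8} (hX : codeOK X) (hY : codeOK Y) :
    n4 (sub X Y) = n4 X - n4 Y ∧ n5 (sub X Y) = n5 X - n5 Y ∧ n6 (sub X Y) = n6 X - n6 Y ∧
    n7 (sub X Y) = n7 X - n7 Y := by
  obtain ⟨a0, a1, b0, b1, c0, c1, d0, d1⟩ := X
  obtain ⟨x0, x1, y0, y1, z0, z1, w0, w1⟩ := Y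
  obtain ⟨h1, h2, h3, h4⟩ := hX
  obtain ⟨g1, g2, g3, g4⟩ := hY
  simp only at h1 h2 h3 h4 g1 g2 g3 g4
  simp only [n4, n5, n6, n7, sub]
  refine ⟨?_, ?_, ?_, ?_⟩ <;> omega

theorem n_add3 {X Y Z : Q8} (hX : codeOK X) (hY : codeOK Y) (hZ : codeOK Z) :
    n0 (add (add X Y) Z) = n0 X + n0 Y + n0 Z ∧ n1 (add (add X Y) Z) = n1 X + n1 Y + n1 Z ∧
    n2 (add (add X Y) Z) = n2 X + n2 Y + n2 Z ∧ n3 (add (add X Y) Z) = n3 X + n3 Y + n3 Z := by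
  obtain ⟨a0, a1, b0, b1, c0, c1, d0, d1⟩ := X
  obtain ⟨x0, x1, y0, y1, z0, z1, w0, w1⟩ := Y
  obtain ⟨p0, p1, q0, q1, r0, r1, s0, s1⟩ := Z
  obtain ⟨h1, h2, h3, h4⟩ := hX
  obtain ⟨g1, g2, g3, g4⟩ := hY
  obtain ⟨f1, f2, f3, f4⟩ := hZ
  simp only at h1 h2 h3 h4 g1 g2 g3 g4 f1 f2 f3 f4
  simp only [n0, n1, n2, n3, add]
  refine ⟨?_, ?_, ?_, ?_⟩ <;> omega

/-- The rational part of four times the norm. -/
def N0 (X : Q8) : ℤ :=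
  X.a0 * X.a0 + X.a1 * X.a1 + X.b0 * X.b0 + X.b1 * X.b1 + X.c0 * X.c0 + X.c1 * X.c1 +
    X.d0 * X.d0 + X.d1 * X.d1

/-- The `τ` part of four times the norm. -/
def N1 (X : Q8) : ℤ :=
  2 * X.a0 * X.a1 + X.a1 * X.a1 + 2 * X.b0 * X.b1 + X.b1 * X.b1 + 2 * X.c0 * X.c1 + X.c1 * X.c1 +
    2 * X.d0 * X.d1 + X.d1 * X.d1

theorem normSq_toH (X : Q8) : normSq (toH X) = ((N0 X : ℝ) + (N1 X : ℝ) * tau) / 4 := by
  rw [Quaternion.normSq_def']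
  simp only [toH_re, toH_imI, toH_imJ, toH_imK, N0, N1]
  push_cast
  have h := tau_sq
  linear_combination
    ((X.a1 : ℝ) ^ 2 + (X.b1 : ℝ) ^ 2 + (X.c1 : ℝ) ^ 2 + (X.d1 : ℝ) ^ 2) / 4 * h

theorem N0_nonneg (X : Q8) : 0 ≤ N0 X := by
  unfold N0
  nlinarith [mul_self_nonneg X.a0, mul_self_nonneg X.a1, mul_self_nonneg X.b0,
    mul_self_nonneg X.b1, mul_self_nonneg X.c0, mul_self_nonneg X.c1, mul_self_nonneg X.d0,
    mul_self_nonneg X.d1]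

end Q8

/-- The vector of `ℍ³` given by three raw quaternions. -/
noncomputable def toV (T : Q8 × Q8 × Q8) : Fin 3 → ℍ[ℝ] := ![Q8.toH T.1, Q8.toH T.2.1, Q8.toH T.2.2]

theorem toV_injective : Function.Injective toV := by
  intro S T h
  have h0 := congrFun h 0
  have h1 := congrFun h 1
  have h2 := congrFun h 2
  simp only [toV, Matrix.cons_val_zero, Matrix.cons_val_one, Matrix.cons_val_two,
    Matrix.head_cons, Matrix.tail_cons] at h0 h1 h2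
  obtain ⟨a, b, c⟩ := S
  obtain ⟨a', b', c'⟩ := T
  simp only at h0 h1 h2
  rw [Q8.toH_injective h0, Q8.toH_injective h1, Q8.toH_injective h2]

/-- The raw conditions satisfied by a minimal vector of the icosian Leech lattice. -/
def RawMin (T : Q8 × Q8 × Q8) : Prop :=
  Q8.codeOK T.1 ∧ Q8.codeOK T.2.1 ∧ Q8.codeOK T.2.2 ∧
  (Q8.n4 T.1 % 2 = Q8.n4 T.2.1 % 2 ∧ Q8.n5 T.1 % 2 = Q8.n5 T.2.1 % 2 ∧
    Q8.n6 T.1 % 2 = Q8.n6 T.2.1 % 2 ∧ Q8.n7 T.1 % 2 = Q8.n7 T.2.1 % 2) ∧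
  (Q8.n4 T.2.1 % 2 = Q8.n4 T.2.2 % 2 ∧ Q8.n5 T.2.1 % 2 = Q8.n5 T.2.2 % 2 ∧
    Q8.n6 T.2.1 % 2 = Q8.n6 T.2.2 % 2 ∧ Q8.n7 T.2.1 % 2 = Q8.n7 T.2.2 % 2) ∧
  ((Q8.n0 T.1 + Q8.n0 T.2.1 + Q8.n0 T.2.2) % 2 = 0 ∧ (Q8.n1 T.1 + Q8.n1 T.2.1 + Q8.n1 T.2.2) % 2 = 0 ∧
    (Q8.n2 T.1 + Q8.n2 T.2.1 + Q8.n2 T.2.2) % 2 = 0 ∧
    (Q8.n3 T.1 + Q8.n3 T.2.1 + Q8.n3 T.2.2) % 2 = 0) ∧
  Q8.N0 T.1 + Q8.N0 T.2.1 + Q8.N0 T.2.2 = 16 ∧ Q8.N1 T.1 + Q8.N1 T.2.1 + Q8.N1 T.2.2 = 0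

theorem qip_self_toV (T : Q8 × Q8 × Q8) :
    qip (toV T) (toV T) =
      (((((Q8.N0 T.1 + Q8.N0 T.2.1 + Q8.N0 T.2.2 : ℤ) : ℝ) +
        ((Q8.N1 T.1 + Q8.N1 T.2.1 + Q8.N1 T.2.2 : ℤ) : ℝ) * tau) / 4 : ℝ) : ℍ[ℝ]) := by
  unfold qip
  rw [Fin.sum_univ_three]
  simp only [toV, Matrix.cons_val_zero, Matrix.cons_val_one, Matrix.cons_val_two,
    Matrix.head_cons, Matrix.tail_cons, Quaternion.self_mul_star, Q8.normSq_toH]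
  rw [← Quaternion.coe_add, ← Quaternion.coe_add]
  congr 1
  push_cast
  ring

/-- Every minimal vector of the icosian Leech lattice comes from a raw triple satisfying `RawMin`. -/
theorem exists_rawMin {r : Fin 3 → ℍ[ℝ]} (hr : r ∈ icoLeech) (h4 : qip r r = 4) :
    ∃ T, RawMin T ∧ toV T = r := by
  obtain ⟨hI, h01, h12, hs⟩ := hr
  obtain ⟨X, hX, hX'⟩ := Q8.mem_icosians_iff.1 (hI 0)
  obtain ⟨Y, hY, hY'⟩ := Q8.mem_icosians_iff.1 (hI 1)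
  obtain ⟨Z, hZ, hZ'⟩ := Q8.mem_icosians_iff.1 (hI 2)
  have hr' : toV (X, Y, Z) = r := by
    funext t
    fin_cases t <;> simp [toV, hX', hY', hZ']
  refine ⟨(X, Y, Z), ?_, hr'⟩
  rw [← hX', ← hY', ← Q8.toH_sub] at h01
  rw [← hY', ← hZ', ← Q8.toH_sub] at h12
  rw [← hX', ← hY', ← hZ', ← Q8.toH_add, ← Q8.toH_add] at hs
  have k01 := Q8.keyH_of_mem h01
  have k12 := Q8.keyH_of_mem h12
  have ks := Q8.keyB_of_mem hs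
  obtain ⟨a1, a2, a3, a4⟩ := Q8.n_sub hX hY
  obtain ⟨b1, b2, b3, b4⟩ := Q8.n_sub hY hZ
  obtain ⟨c1, c2, c3, c4⟩ := Q8.n_add3 hX hY hZ
  rw [a1, a2, a3, a4] at k01
  rw [b1, b2, b3, b4] at k12
  rw [c1, c2, c3, c4] at ks
  rw [← hr', qip_self_toV] at h4
  have h4' : ((Q8.N0 X + Q8.N0 Y + Q8.N0 Z : ℤ) : ℝ) + ((Q8.N1 X + Q8.N1 Y + Q8.N1 Z : ℤ) : ℝ) * tau
      = ((16 : ℤ) : ℝ) + ((0 : ℤ) : ℝ) * tau := by
    have h5 := congrArg QuaternionAlgebra.re h4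
    rw [Quaternion.re_coe] at h5
    have h6 : (4 : ℍ[ℝ]).re = 4 := rfl
    rw [h6] at h5
    simp only at h5
    push_cast at h5 ⊢
    linarith
  obtain ⟨e0, e1⟩ := int_tau_inj h4'
  obtain ⟨k1, k2, k3, k4⟩ := k01
  obtain ⟨l1, l2, l3, l4⟩ := k12
  refine ⟨hX, hY, hZ, ⟨?_, ?_, ?_, ?_⟩, ⟨?_, ?_, ?_, ?_⟩, ks, e0, e1⟩ <;> dsimp only <;> omega

end Cfsg.Agent.Helper7.J2
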