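import Cfsg.Agent.Helper7.J2.LinesData

/-!
# The icosian model of `J2`: kernel checks on the 315 lines and the 120 units
-/

set_option autoImplicit false

namespace Cfsg.Agent.Helper7.J2

/-- A code of a raw quaternion with coordinates in `(-256, 256)`. -/
def q8code (X : Q8) : ℕ :=
  (X.a0 + 256).toNat + 512 * ((X.a1 + 256).toNat + 512 * ((X.b0 + 256).toNat + 512 *
    ((X.b1 + 256).toNat + 512 * ((X.c0 + 256).toNat + 512 * ((X.c1 + 256).toNat + 512 *
      ((X.d0 + 256).toNat + 512 * (X.d1 + 256).toNat))))))

/-- A code of the matrix `(r̄_t r_s)`. -/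
def matCode (L : V3) : ℕ :=
  (matRaw L).foldl (fun acc X => acc * 2 ^ 72 + q8code X) 0 % 2305843009213693951

set_option maxHeartbeats 0 in
set_option maxRecDepth 1000000 in
theorem lines_min : linesC.all (fun c => isMinRaw (dec3 c)) = true := by decide +kernel

set_option maxHeartbeats 0 in
set_option maxRecDepth 1000000 in
theorem mats_eq : linesC.map (fun c => matCode (dec3 c)) = matsC := by decide +kernel

/-- A list of natural numbers without repetition. -/
def nodupNat : List ℕ → Bool
  | [] => true
  | a :: l => !(elemNat a l) && nodupNat l

theorem nodupNat_sound : ∀ {l : List ℕ}, nodupNat l = true → l.Nodup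
  | [], _ => List.nodup_nil
  | a :: l, h => by
    simp only [nodupNat, Bool.and_eq_true, Bool.not_eq_true'] at h
    refine List.nodup_cons.2 ⟨?_, nodupNat_sound h.2⟩
    intro hm
    have := (elemNat_iff a l).2 hm
    rw [h.1] at this
    exact absurd this (by simp)

set_option maxHeartbeats 0 in
set_option maxRecDepth 1000000 in
theorem mats_nodup : matsC.Nodup := nodupNat_sound (by decide +kernel)

set_option maxHeartbeats 0 in
set_option maxRecDepth 1000000 in
theorem units_ok : unitsC.all (fun c => Q8.isUnitRaw (Q8.dec c) && Nat.blt c 4294967296) = true := by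
  decide +kernel

set_option maxHeartbeats 0 in
set_option maxRecDepth 1000000 in
theorem units_nodup : unitsC.Nodup := nodupNat_sound (by decide +kernel)

theorem linesC_length : linesC.length = 315 := by decide +kernel

theorem unitsC_length : unitsC.length = 120 := by decide +kernel

end Cfsg.Agent.Helper7.J2
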