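import Cfsg.Agent.Helper7.J2.TblOk
import Cfsg.Agent.Helper7.J2.LinesChk
import Cfsg.Agent.Helper68.J2C

/-!
# The icosian model of `J2`: the 37800 minimal vectors and the 315 reflections
-/

set_option autoImplicit false
set_option linter.constructorNameAsVariable false
set_option maxRecDepth 100000

open Quaternion Cfsg.Spor Cfsg.Agent.Helper91.J2A Cfsg.Agent.Helper91.J2B Cfsg.Agent.Helper68.J2C

namespace Cfsg.Agent.Helper7.J2

/-- The set of minimal vectors of the icosian Leech lattice. -/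
def minVecs : Set (Fin 3 → ℍ[ℝ]) := {r | r ∈ icoLeech ∧ qip r r = 4}

theorem minVecs_finite : minVecs.Finite := by
  have hfin : ((triples table).toFinset : Set (ℕ × ℕ × ℕ)).Finite := Finset.finite_toSet _
  refine (hfin.image fun c => toV (dec3 c)).subset ?_
  intro r hr
  obtain ⟨c, hc, rfl⟩ := exists_mem_triples hr.1 hr.2
  exact ⟨c, by simpa using hc, rfl⟩

/-- The vector of a line code. -/
noncomputable def lineV (l : ℕ × ℕ × ℕ) : Fin 3 → ℍ[ℝ] := toV (dec3 l)

/-- The unit of a unit code. -/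
noncomputable def unitH (c : ℕ) : ℍ[ℝ] := Q8.toH (Q8.dec c)

theorem lineV_min {l : ℕ × ℕ × ℕ} (hl : l ∈ linesC) :
    lineV l ∈ icoLeech ∧ qip (lineV l) (lineV l) = 4 :=
  isMinRaw_sound (List.all_eq_true.1 lines_min l hl)

theorem unitH_spec {c : ℕ} (hc : c ∈ unitsC) :
    unitH c ∈ icosians ∧ unitH c * star (unitH c) = 1 ∧ c < 4294967296 := by
  have h := List.all_eq_true.1 units_ok c hc
  rw [Bool.and_eq_true] at h
  obtain ⟨h1, h2⟩ := Q8.isUnitRaw_sound h.1
  refine ⟨h1, h2, ?_⟩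
  have := h.2
  simpa [Nat.blt_eq] using this

theorem line_inj {l l' : ℕ × ℕ × ℕ} (hl : l ∈ linesC) (hl' : l' ∈ linesC)
    (h : ∀ t, qrefl (lineV l) (E2 t) = qrefl (lineV l') (E2 t)) : l = l' := by
  have h1 : matRaw (dec3 l) = matRaw (dec3 l') := matRaw_eq_of_qrefl_eq h
  have h2 : matCode (dec3 l) = matCode (dec3 l') := by unfold matCode; rw [h1]
  have hnd : (linesC.map fun c => matCode (dec3 c)).Nodup := by rw [mats_eq]; exact mats_nodup
  exact List.inj_on_of_nodup_map hnd hl hl' h2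

theorem linesC_nodup : linesC.Nodup := by
  have hnd : (linesC.map fun c => matCode (dec3 c)).Nodup := by rw [mats_eq]; exact mats_nodup
  exact List.Nodup.of_map _ hnd

theorem dec_inj {c c' : ℕ} (h : c < 4294967296) (h' : c' < 4294967296)
    (e : Q8.dec c = Q8.dec c') : c = c' := by
  simp only [Q8.dec, Q8.mk.injEq] at e
  omega

/-- The minimal vector `u • L`. -/
noncomputable def uL (p : ℕ × (ℕ × ℕ × ℕ)) : Fin 3 → ℍ[ℝ] := lsmul (unitH p.1) (lineV p.2)

theorem qip_lsmul_unit {u : ℍ[ℝ]} (hu : u * star u = 1) {x : Fin 3 → ℍ[ℝ]} (hx : qip x x = 4) :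
    qip (lsmul u x) (lsmul u x) = 4 := by
  rw [qip_lsmul_left, qip_lsmul_right, hx, (Commute.ofNat_left 4 (star u)).eq, ← mul_assoc, hu,
    one_mul]

theorem uL_mem {p : ℕ × (ℕ × ℕ × ℕ)} (hp1 : p.1 ∈ unitsC) (hp2 : p.2 ∈ linesC) :
    uL p ∈ minVecs := by
  obtain ⟨hu, hu1, -⟩ := unitH_spec hp1
  obtain ⟨hr, h4⟩ := lineV_min hp2
  exact ⟨icoLeech_lsmul hu hr, qip_lsmul_unit hu1 h4⟩

theorem exists_ne_zero_of_qip {x : Fin 3 → ℍ[ℝ]} (hx : qip x x = 4) : ∃ t, x t ≠ 0 := by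
  by_contra hcon
  push_neg at hcon
  have : qip x x = 0 := by
    unfold qip
    apply Finset.sum_eq_zero
    intro t _
    rw [hcon t, zero_mul]
  rw [this] at hx
  have h1 := congrArg QuaternionAlgebra.re hx
  have h2 : (4 : ℍ[ℝ]).re = 4 := rfl
  have h3 : (0 : ℍ[ℝ]).re = 0 := rfl
  rw [h2, h3] at h1
  norm_num at h1

/-- The pairs (unit, line). -/
def bigF : Finset (ℕ × (ℕ × ℕ × ℕ)) := unitsC.toFinset ×ˢ linesC.toFinset

theorem uL_injOn : Set.InjOn uL (bigF : Set (ℕ × (ℕ × ℕ × ℕ))) := by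
  intro p hp q hq h
  simp only [bigF, Finset.coe_product, Set.mem_prod, Finset.mem_coe, List.mem_toFinset] at hp hq
  obtain ⟨hu, hu1, hlt⟩ := unitH_spec hp.1
  obtain ⟨hu', hu1', hlt'⟩ := unitH_spec hq.1
  obtain ⟨hr, h4⟩ := lineV_min hp.2
  have h2 : p.2 = q.2 := by
    apply line_inj hp.2 hq.2
    intro t
    rw [← qrefl_unit_lsmul (unitH p.1) (lineV p.2) (E2 t) hu1,
      ← qrefl_unit_lsmul (unitH q.1) (lineV q.2) (E2 t) hu1']
    show qrefl (uL p) (E2 t) = qrefl (uL q) (E2 t)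
    rw [h]
  have h1 : p.1 = q.1 := by
    obtain ⟨t, ht⟩ := exists_ne_zero_of_qip h4
    have h3 := congrFun h t
    simp only [uL, lsmul_apply] at h3
    rw [← h2] at h3
    have h5 : unitH p.1 = unitH q.1 := mul_right_cancel₀ ht h3
    exact dec_inj hlt hlt' (Q8.toH_injective h5)
  exact Prod.ext h1 h2

theorem bigF_card : bigF.card = 37800 := by
  rw [bigF, Finset.card_product, List.toFinset_card_of_nodup units_nodup,
    List.toFinset_card_of_nodup linesC_nodup, unitsC_length, linesC_length]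

theorem uL_image_subset : uL '' (bigF : Set (ℕ × (ℕ × ℕ × ℕ))) ⊆ minVecs := by
  rintro _ ⟨p, hp, rfl⟩
  simp only [bigF, Finset.coe_product, Set.mem_prod, Finset.mem_coe, List.mem_toFinset] at hp
  exact uL_mem hp.1 hp.2

theorem ncard_uL_image : (uL '' (bigF : Set (ℕ × (ℕ × ℕ × ℕ)))).ncard = 37800 := by
  rw [Set.InjOn.ncard_image uL_injOn, Set.ncard_coe_finset, bigF_card]

/-- There are exactly `37800` minimal vectors. -/
theorem ncard_minVecs : minVecs.ncard = 37800 := by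
  apply le_antisymm ncard_min_le
  rw [← ncard_uL_image]
  exact Set.ncard_le_ncard uL_image_subset minVecs_finite

theorem minVecs_eq : uL '' (bigF : Set (ℕ × (ℕ × ℕ × ℕ))) = minVecs :=
  Set.eq_of_subset_of_ncard_le uL_image_subset (by rw [ncard_uL_image, ncard_minVecs])
    minVecs_finite

/-- Every minimal vector is a unit multiple of one of the 315 line representatives. -/
theorem exists_unit_line {r : Fin 3 → ℍ[ℝ]} (hr : r ∈ icoLeech) (h4 : qip r r = 4) :
    ∃ c ∈ unitsC, ∃ l ∈ linesC, r = lsmul (unitH c) (lineV l) := by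
  have : r ∈ uL '' (bigF : Set (ℕ × (ℕ × ℕ × ℕ))) := by rw [minVecs_eq]; exact ⟨hr, h4⟩
  obtain ⟨p, hp, rfl⟩ := this
  simp only [bigF, Finset.coe_product, Set.mem_prod, Finset.mem_coe, List.mem_toFinset] at hp
  exact ⟨p.1, hp.1, p.2, hp.2, rfl⟩

/-- The reflection in the line with code `l`. -/
noncomputable def lineRefl (l : ℕ × ℕ × ℕ) : Equiv.Perm icoLeech :=
  if h : isMinRaw (dec3 l) = true then
    reflPerm (lineV l) (isMinRaw_sound h).1 (isMinRaw_sound h).2
  else 1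

theorem lineRefl_eq {l : ℕ × ℕ × ℕ} (hl : l ∈ linesC) (hr : lineV l ∈ icoLeech)
    (h4 : qip (lineV l) (lineV l) = 4) : lineRefl l = reflPerm (lineV l) hr h4 := by
  unfold lineRefl
  rw [dif_pos (List.all_eq_true.1 lines_min l hl)]

theorem lineRefl_apply {l : ℕ × ℕ × ℕ} (hl : l ∈ linesC) (x : icoLeech) :
    ((lineRefl l x : icoLeech) : Fin 3 → ℍ[ℝ]) = qrefl (lineV l) x := by
  rw [lineRefl_eq hl (lineV_min hl).1 (lineV_min hl).2, reflPerm_apply]

theorem isIcoReflection_iff {f : Equiv.Perm icoLeech} :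
    IsIcoReflection f ↔ ∃ l ∈ linesC, f = lineRefl l := by
  constructor
  · intro hf
    obtain ⟨r, hr, h4, rfl⟩ := eq_reflPerm_of_isIcoReflection hf
    obtain ⟨c, hc, l, hl, rfl⟩ := exists_unit_line hr h4
    obtain ⟨hu, hu1, -⟩ := unitH_spec hc
    refine ⟨l, hl, ?_⟩
    rw [lineRefl_eq hl (lineV_min hl).1 (lineV_min hl).2]
    exact reflPerm_unit_lsmul _ hu hu1 _ _ _ _ _
  · rintro ⟨l, hl, rfl⟩
    rw [lineRefl_eq hl (lineV_min hl).1 (lineV_min hl).2]
    exact isIcoReflection_reflPerm _ _ _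

theorem lineRefl_injOn : Set.InjOn lineRefl (linesC.toFinset : Set (ℕ × ℕ × ℕ)) := by
  intro l hl l' hl' h
  simp only [Finset.mem_coe, List.mem_toFinset] at hl hl'
  apply line_inj hl hl'
  intro t
  have h1 := lineRefl_apply hl ⟨E t, E_mem t⟩
  have h2 := lineRefl_apply hl' ⟨E t, E_mem t⟩
  rw [h] at h1
  exact h1.symm.trans h2

/-- There are exactly `315` reflections. -/
theorem ncard_reflections : {f : Equiv.Perm icoLeech | IsIcoReflection f}.ncard = 315 := by
  have : {f : Equiv.Perm icoLeech | IsIcoReflection f} =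
      lineRefl '' (linesC.toFinset : Set (ℕ × ℕ × ℕ)) := by
    ext f
    simp only [Set.mem_ofPred_eq, isIcoReflection_iff, Set.mem_image, Finset.mem_coe,
      List.mem_toFinset]
    constructor
    · rintro ⟨l, hl, rfl⟩; exact ⟨l, hl, rfl⟩
    · rintro ⟨l, hl, rfl⟩; exact ⟨l, hl, rfl⟩
  rw [this, Set.InjOn.ncard_image lineRefl_injOn, Set.ncard_coe_finset,
    List.toFinset_card_of_nodup linesC_nodup, linesC_length]

end Cfsg.Agent.Helper7.J2
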