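import Cfsg.Agent.Helper7.J2.EnumDefs
import Cfsg.Agent.Helper7.J2.Defs

/-!
# The icosian model of `J2`: decidable raw tests

Membership in the icosian Leech lattice, minimality, the image under a reflection and left
multiplication by an icosian, as decidable tests on raw triples `Q8 × Q8 × Q8`, with their soundness.
-/

set_option autoImplicit false

open Quaternion

namespace Cfsg.Agent.Helper7.J2

open Cfsg.Spor

namespace Q8

/-- The raw `2`. -/
def two : Q8 := ⟨4, 0, 0, 0, 0, 0, 0, 0⟩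

theorem two_eq : (2 : ℍ[ℝ]) = ((2 : ℝ) : ℍ[ℝ]) := (QuaternionAlgebra.coe_ofNat).symm

theorem toH_two : toH two = 2 := by
  rw [two_eq]
  ext <;> simp [two]
  norm_num

theorem icoH_mul_star' : icoH * star icoH = 2 := by
  rw [← toH_HB, ← toH_H, toH_mul_of_eq (P := two) (by decide), toH_two]

theorem star_icoH_mul' : star icoH * icoH = 2 := by
  rw [← toH_HB, ← toH_H, toH_mul_of_eq (P := two) (by decide), toH_two]

/-- Division of all coordinates by four. -/
def quarter (P : Q8) : Q8 := halve (halve P)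

/-- Raw test for membership in `I h`. -/
def inIh (D : Q8) : Bool :=
  decide (smul 4 (quarter (mulRaw D HB)) = mulRaw D HB) && decide (codeOK (quarter (mulRaw D HB)))

/-- Raw test for membership in `I h̄`. -/
def inIhb (D : Q8) : Bool :=
  decide (smul 4 (quarter (mulRaw D H)) = mulRaw D H) && decide (codeOK (quarter (mulRaw D H)))

theorem mem_leftIdeal_of_raw {D A Y Yb : Q8} (hA : codeOK A) (h : smul 4 A = mulRaw D Yb)
    (hY : toH Yb * toH Y = 2) : toH D ∈ leftIdeal (toH Y) := by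
  refine ⟨toH A, toH_mem_icosians hA, ?_⟩
  have h1 := toH_mulRaw D Yb
  rw [← h, toH_smul] at h1
  push_cast at h1
  -- `4 • a = 2 • (d * yb)`
  have h2 : toH D * toH Yb = (2 : ℝ) • toH A := by
    have : (2 : ℝ) • (toH D * toH Yb) = (2 : ℝ) • ((2 : ℝ) • toH A) := by
      rw [← h1, smul_smul]; norm_num
    exact smul_right_injective _ (by norm_num : (2 : ℝ) ≠ 0) this
  have h3 : toH D * (toH Yb * toH Y) = ((2 : ℝ) • toH A) * toH Y := by
    rw [← mul_assoc, h2]
  rw [hY, smul_mul_assoc] at h3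
  have h4 : toH D * 2 = (2 : ℝ) • toH D := by
    rw [two_eq, ← Quaternion.coe_commutes, Quaternion.coe_mul_eq_smul]
  rw [h4] at h3
  exact smul_right_injective _ (by norm_num : (2 : ℝ) ≠ 0) h3

theorem inIh_sound {D : Q8} (h : inIh D = true) : toH D ∈ leftIdeal icoH := by
  simp only [inIh, Bool.and_eq_true, decide_eq_true_eq] at h
  rw [← toH_H]
  exact mem_leftIdeal_of_raw h.2 h.1 (by rw [toH_HB, toH_H]; exact star_icoH_mul')

theorem inIhb_sound {D : Q8} (h : inIhb D = true) : toH D ∈ leftIdeal (star icoH) := by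
  simp only [inIhb, Bool.and_eq_true, decide_eq_true_eq] at h
  rw [← toH_HB]
  exact mem_leftIdeal_of_raw h.2 h.1 (by rw [toH_HB, toH_H]; exact icoH_mul_star')

/-- Raw test for being a unit icosian. -/
def isUnitRaw (U : Q8) : Bool := decide (codeOK U) && (decide (N0 U = 4) && decide (N1 U = 0))

theorem isUnitRaw_sound {U : Q8} (h : isUnitRaw U = true) :
    toH U ∈ icosians ∧ toH U * star (toH U) = 1 := by
  simp only [isUnitRaw, Bool.and_eq_true, decide_eq_true_eq] at h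
  refine ⟨toH_mem_icosians h.1, ?_⟩
  rw [Quaternion.self_mul_star, normSq_toH, h.2.1, h.2.2]
  norm_num

end Q8

/-- Raw vectors. -/
abbrev V3 : Type := Q8 × Q8 × Q8

@[simp] theorem toV_zero (T : V3) : toV T 0 = Q8.toH T.1 := rfl
@[simp] theorem toV_one (T : V3) : toV T 1 = Q8.toH T.2.1 := rfl
@[simp] theorem toV_two (T : V3) : toV T 2 = Q8.toH T.2.2 := rfl

/-- Raw test for membership in the icosian Leech lattice. -/
def inLeechRaw (T : V3) : Bool :=
  decide (Q8.codeOK T.1) && (decide (Q8.codeOK T.2.1) && (decide (Q8.codeOK T.2.2) &&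
    (Q8.inIh (Q8.sub T.1 T.2.1) && (Q8.inIh (Q8.sub T.2.1 T.2.2) &&
      Q8.inIhb (Q8.add (Q8.add T.1 T.2.1) T.2.2)))))

theorem inLeechRaw_sound {T : V3} (h : inLeechRaw T = true) : toV T ∈ icoLeech := by
  simp only [inLeechRaw, Bool.and_eq_true, decide_eq_true_eq] at h
  obtain ⟨h1, h2, h3, h4, h5, h6⟩ := h
  refine ⟨?_, ?_, ?_, ?_⟩
  · intro t
    fin_cases t
    · exact Q8.toH_mem_icosians h1
    · exact Q8.toH_mem_icosians h2
    · exact Q8.toH_mem_icosians h3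
  · have := Q8.inIh_sound h4
    rwa [Q8.toH_sub] at this
  · have := Q8.inIh_sound h5
    rwa [Q8.toH_sub] at this
  · have := Q8.inIhb_sound h6
    rwa [Q8.toH_add, Q8.toH_add] at this

/-- Raw test for being a minimal vector of the icosian Leech lattice. -/
def isMinRaw (T : V3) : Bool :=
  inLeechRaw T && (decide (Q8.N0 T.1 + Q8.N0 T.2.1 + Q8.N0 T.2.2 = 16) &&
    decide (Q8.N1 T.1 + Q8.N1 T.2.1 + Q8.N1 T.2.2 = 0))

theorem isMinRaw_sound {T : V3} (h : isMinRaw T = true) :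
    toV T ∈ icoLeech ∧ qip (toV T) (toV T) = 4 := by
  simp only [isMinRaw, Bool.and_eq_true, decide_eq_true_eq] at h
  refine ⟨inLeechRaw_sound h.1, ?_⟩
  rw [qip_self_toV, h.2.1, h.2.2]
  have : (((16 : ℤ) : ℝ) + ((0 : ℤ) : ℝ) * tau) / 4 = (4 : ℝ) := by norm_num
  rw [this]
  exact QuaternionAlgebra.coe_ofNat

/-- The raw Hermitian product: it stands for `2 (x · r)`. -/
def qipRaw (X R : V3) : Q8 :=
  Q8.add (Q8.add (Q8.mulRaw X.1 (Q8.conj R.1)) (Q8.mulRaw X.2.1 (Q8.conj R.2.1)))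
    (Q8.mulRaw X.2.2 (Q8.conj R.2.2))

theorem toH_qipRaw (X R : V3) : Q8.toH (qipRaw X R) = (2 : ℝ) • qip (toV X) (toV R) := by
  simp only [qipRaw, Q8.toH_add, Q8.toH_mulRaw, Q8.toH_conj, qip, Fin.sum_univ_three, toV_zero,
    toV_one, toV_two, smul_add]

/-- Raw test: the reflection in `R` maps `X` to `Y`. -/
def reflCheck (R X Y : V3) : Bool :=
  decide (Q8.mulRaw (qipRaw X R) R.1 = Q8.smul 8 (Q8.sub X.1 Y.1)) &&
    (decide (Q8.mulRaw (qipRaw X R) R.2.1 = Q8.smul 8 (Q8.sub X.2.1 Y.2.1)) &&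
      decide (Q8.mulRaw (qipRaw X R) R.2.2 = Q8.smul 8 (Q8.sub X.2.2 Y.2.2)))

theorem reflCheck_aux {P Rs Xs Ys : Q8} {q : ℍ[ℝ]} (hP : Q8.toH P = (2 : ℝ) • q)
    (h : Q8.mulRaw P Rs = Q8.smul 8 (Q8.sub Xs Ys)) :
    Q8.toH Xs - ((1 / 2 : ℝ) • q) * Q8.toH Rs = Q8.toH Ys := by
  have h1 := Q8.toH_mulRaw P Rs
  rw [h, Q8.toH_smul, Q8.toH_sub, hP, smul_mul_assoc] at h1
  rw [smul_mul_assoc]
  push_cast at h1
  have h2 := congrArg (fun z => (1 / 8 : ℝ) • z) h1
  simp only [smul_smul, smul_sub] at h2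
  norm_num at h2
  rw [← h2]
  module

theorem reflCheck_sound {R X Y : V3} (h : reflCheck R X Y = true) :
    qrefl (toV R) (toV X) = toV Y := by
  simp only [reflCheck, Bool.and_eq_true, decide_eq_true_eq] at h
  obtain ⟨h0, h1, h2⟩ := h
  have hP := toH_qipRaw X R
  funext t
  fin_cases t
  · exact reflCheck_aux hP h0
  · exact reflCheck_aux hP h1
  · exact reflCheck_aux hP h2

/-- Raw left multiplication. -/
def lsmulRaw (U : Q8) (L : V3) : V3 :=
  (Q8.halve (Q8.mulRaw U L.1), Q8.halve (Q8.mulRaw U L.2.1), Q8.halve (Q8.mulRaw U L.2.2))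

/-- Raw test: the left multiplication is exact. -/
def lsmulOk (U : Q8) (L : V3) : Bool :=
  decide (Q8.mulRaw U L.1 = Q8.smul 2 (Q8.halve (Q8.mulRaw U L.1))) &&
    (decide (Q8.mulRaw U L.2.1 = Q8.smul 2 (Q8.halve (Q8.mulRaw U L.2.1))) &&
      decide (Q8.mulRaw U L.2.2 = Q8.smul 2 (Q8.halve (Q8.mulRaw U L.2.2))))

theorem lsmulRaw_sound {U : Q8} {L : V3} (h : lsmulOk U L = true) :
    toV (lsmulRaw U L) = lsmul (Q8.toH U) (toV L) := by
  simp only [lsmulOk, Bool.and_eq_true, decide_eq_true_eq] at h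
  obtain ⟨h0, h1, h2⟩ := h
  funext t
  fin_cases t
  · exact (Q8.toH_mul_of_eq h0).symm
  · exact (Q8.toH_mul_of_eq h1).symm
  · exact (Q8.toH_mul_of_eq h2).symm

/-- The frame vectors `2 e_t`. -/
noncomputable def E2 (t : Fin 3) : Fin 3 → ℍ[ℝ] := Pi.single t 2

/-- The raw matrix `(r̄_t r_s)`, which determines the reflection in `r`. -/
def matRaw (L : V3) : List Q8 :=
  [Q8.mulRaw (Q8.conj L.1) L.1, Q8.mulRaw (Q8.conj L.1) L.2.1, Q8.mulRaw (Q8.conj L.1) L.2.2,
   Q8.mulRaw (Q8.conj L.2.1) L.1, Q8.mulRaw (Q8.conj L.2.1) L.2.1, Q8.mulRaw (Q8.conj L.2.1) L.2.2,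
   Q8.mulRaw (Q8.conj L.2.2) L.1, Q8.mulRaw (Q8.conj L.2.2) L.2.1, Q8.mulRaw (Q8.conj L.2.2) L.2.2]

theorem qrefl_E2 (r : Fin 3 → ℍ[ℝ]) (t s : Fin 3) :
    qrefl r (E2 t) s = E2 t s - star (r t) * r s := by
  unfold qrefl qip E2
  rw [Finset.sum_eq_single t]
  · simp only [Pi.single_eq_same]
    congr 1
    rw [smul_mul_assoc]
    rw [show (2 : ℍ[ℝ]) * star (r t) = (2 : ℝ) • star (r t) by
      rw [Q8.two_eq, Quaternion.coe_mul_eq_smul]]
    rw [smul_mul_assoc, smul_smul]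
    norm_num
  · intro b _ hb
    rw [Pi.single_eq_of_ne hb]
    simp
  · intro h
    exact absurd (Finset.mem_univ t) h

theorem matRaw_eq_of_qrefl_eq {L L' : V3}
    (h : ∀ t, qrefl (toV L) (E2 t) = qrefl (toV L') (E2 t)) : matRaw L = matRaw L' := by
  have key : ∀ t s : Fin 3, star (toV L t) * toV L s = star (toV L' t) * toV L' s := by
    intro t s
    have h1 := congrFun (h t) s
    rw [qrefl_E2, qrefl_E2] at h1
    exact sub_right_injective h1
  have raw : ∀ A B A' B' : Q8, star (Q8.toH A) * Q8.toH B = star (Q8.toH A') * Q8.toH B' →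
      Q8.mulRaw (Q8.conj A) B = Q8.mulRaw (Q8.conj A') B' := by
    intro A B A' B' hh
    apply Q8.toH_injective
    rw [Q8.toH_mulRaw, Q8.toH_mulRaw, Q8.toH_conj, Q8.toH_conj, hh]
  simp only [matRaw]
  rw [raw _ _ _ _ (key 0 0), raw _ _ _ _ (key 0 1), raw _ _ _ _ (key 0 2), raw _ _ _ _ (key 1 0),
    raw _ _ _ _ (key 1 1), raw _ _ _ _ (key 1 2), raw _ _ _ _ (key 2 0), raw _ _ _ _ (key 2 1),
    raw _ _ _ _ (key 2 2)]

end Cfsg.Agent.Helper7.J2
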