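import Cfsg.Agent.Helper7.J2.Tbl0
import Cfsg.Agent.Helper7.J2.Tbl1
import Cfsg.Agent.Helper7.J2.Tbl2
import Cfsg.Agent.Helper7.J2.Tbl3
import Cfsg.Agent.Helper7.J2.Tbl4
import Cfsg.Agent.Helper7.J2.Tbl5
import Cfsg.Agent.Helper7.J2.Tbl6
import Cfsg.Agent.Helper7.J2.Tbl7
import Cfsg.Agent.Helper7.J2.Tbl8
import Cfsg.Agent.Helper7.J2.Tbl9
import Cfsg.Agent.Helper7.J2.Tbl10
import Cfsg.Agent.Helper7.J2.Tbl11
import Cfsg.Agent.Helper7.J2.Tbl12
import Cfsg.Agent.Helper7.J2.Tbl13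
import Cfsg.Agent.Helper7.J2.Tbl14
import Cfsg.Agent.Helper7.J2.Tbl15

/-!
# The icosian model of `J2`: the table of the raw icosians of norm at most 4
-/

set_option autoImplicit false

namespace Cfsg.Agent.Helper7.J2

/-- The table of all raw icosians with `N0 ≤ 16`. -/
def table : List Cls :=
  [Tbl.cls0, Tbl.cls1, Tbl.cls2, Tbl.cls3, Tbl.cls4, Tbl.cls5, Tbl.cls6, Tbl.cls7, Tbl.cls8,
   Tbl.cls9, Tbl.cls10, Tbl.cls11, Tbl.cls12, Tbl.cls13, Tbl.cls14, Tbl.cls15]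

theorem table_count : (table.map fun c => countOf c.entries).sum = 37800 := by
  simp only [table, List.map_cons, List.map_nil, Tbl.cnt0, Tbl.cnt1, Tbl.cnt2, Tbl.cnt3, Tbl.cnt4,
    Tbl.cnt5, Tbl.cnt6, Tbl.cnt7, Tbl.cnt8, Tbl.cnt9, Tbl.cnt10, Tbl.cnt11, Tbl.cnt12, Tbl.cnt13,
    Tbl.cnt14, Tbl.cnt15, List.sum_cons, List.sum_nil]
  norm_num

theorem triples_length : (triples table).length = 37800 := by
  rw [length_triples, table_count]

end Cfsg.Agent.Helper7.J2
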