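import Cfsg.Agent.Helper7.J2.TblOk0
import Cfsg.Agent.Helper7.J2.TblOk1
import Cfsg.Agent.Helper7.J2.TblOk2
import Cfsg.Agent.Helper7.J2.TblOk3

/-!
# The icosian model of `J2`: the table contains all raw icosians of norm at most 4
-/

set_option autoImplicit false

open Quaternion

namespace Cfsg.Agent.Helper7.J2

theorem allP_split : Q8.allP 16 =
    ((Q8.allP 16).drop (13 * 0)).take 13 ++ (((Q8.allP 16).drop (13 * 1)).take 13 ++
      (((Q8.allP 16).drop (13 * 2)).take 13 ++ ((Q8.allP 16).drop (13 * 3)).take 13)) := by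
  decide +kernel

theorem table_ok : ∀ x ∈ Q8.WlN, inTable table x = true := by
  intro x hx
  have h0 := table_ok_part0
  have h1 := table_ok_part1
  have h2 := table_ok_part2
  have h3 := table_ok_part3
  rw [List.all_eq_true] at h0 h1 h2 h3
  unfold Q8.WlN at hx
  rw [allP_split, List.flatMap_append, List.flatMap_append, List.flatMap_append] at hx
  simp only [List.mem_append] at hx
  rcases hx with hx | hx | hx | hx
  · exact h0 x hx
  · exact h1 x hx
  · exact h2 x hx
  · exact h3 x hx

/-- Every minimal vector of the icosian Leech lattice is the decoding of a triple of `triples table`. -/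
theorem exists_mem_triples {r : Fin 3 → ℍ[ℝ]} (hr : r ∈ Cfsg.Spor.icoLeech)
    (h4 : Cfsg.Spor.qip r r = 4) : ∃ c ∈ triples table, toV (dec3 c) = r := by
  obtain ⟨T, hT, rfl⟩ := exists_rawMin hr h4
  obtain ⟨c, hc, rfl⟩ := mem_triples_of_rawMin table_ok hT
  exact ⟨c, hc, rfl⟩

/-- There are at most `37800` minimal vectors. -/
theorem ncard_min_le :
    {r : Fin 3 → ℍ[ℝ] | r ∈ Cfsg.Spor.icoLeech ∧ Cfsg.Spor.qip r r = 4}.ncard ≤ 37800 := by
  have hsub : {r : Fin 3 → ℍ[ℝ] | r ∈ Cfsg.Spor.icoLeech ∧ Cfsg.Spor.qip r r = 4} ⊆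
      (fun c => toV (dec3 c)) '' ((triples table).toFinset : Set (ℕ × ℕ × ℕ)) := by
    intro r hr
    obtain ⟨c, hc, rfl⟩ := exists_mem_triples hr.1 hr.2
    exact ⟨c, by simpa using hc, rfl⟩
  have hfin : ((triples table).toFinset : Set (ℕ × ℕ × ℕ)).Finite := Finset.finite_toSet _
  calc _ ≤ ((fun c => toV (dec3 c)) '' ((triples table).toFinset : Set (ℕ × ℕ × ℕ))).ncard :=
        Set.ncard_le_ncard hsub (hfin.image _)
    _ ≤ ((triples table).toFinset : Set (ℕ × ℕ × ℕ)).ncard := Set.ncard_image_le hfin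
    _ = (triples table).toFinset.card := Set.ncard_coe_finset _
    _ ≤ (triples table).length := List.toFinset_card_le _
    _ = 37800 := triples_length

end Cfsg.Agent.Helper7.J2
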