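import Cfsg.Agent.Helper7.J2.TblAll

/-!
# The icosian model of `J2`: the table contains all raw icosians of norm at most 4 (part 0)
-/

set_option autoImplicit false

namespace Cfsg.Agent.Helper7.J2

set_option maxHeartbeats 0 in
set_option maxRecDepth 1000000 in
theorem table_ok_part0 :
    ((((Q8.allP 16).drop (13 * 0)).take 13).flatMap Q8.WlNc).all (inTable table) = true := by
  decide +kernel

end Cfsg.Agent.Helper7.J2
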